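import Groth.Agent.Henselization.Properties

/-!
Transfer from `Hz R K` to an arbitrary `R`-algebra isomorphic to it.
-/

namespace Groth.Agent.Henselization

universe u

open IsLocalRing

noncomputable section

variable {R : Type u} [CommRing R] {S : Type u} [CommRing S] [Algebra R S]

theorem AlgEquiv.map_map {H : Type u} [CommRing H] [Algebra R H] (e : H ≃ₐ[R] S) (I : Ideal R) :
    (I.map (algebraMap R H)).map e.toAlgHom.toRingHom = I.map (algebraMap R S) := by
  rw [Ideal.map_map]
  exact congrArg (I.map ·) (RingHom.ext e.commutes)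

variable {K : Type u} [Field K] [Algebra R K] (e : Hz R K ≃ₐ[R] S)
include e

theorem formallyEtale_of_equiv : Algebra.FormallyEtale R S := Algebra.FormallyEtale.of_equiv e

theorem nilradical_of_equiv : nilradical S = (nilradical R).map (algebraMap R S) := by
  refine le_antisymm (fun x hx => ?_)
    (Ideal.map_le_iff_le_comap.2 fun _ hx => IsNilpotent.map hx _)
  obtain ⟨z, rfl⟩ := e.surjective x
  have hz : z ∈ nilradical (Hz R K) := (IsNilpotent.map_iff e.injective).1 hx
  rw [nilradical_eq_map] at hz
  exact AlgEquiv.map_map e (nilradical R) ▸ Ideal.mem_map_of_mem e.toAlgHom.toRingHom hz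

variable [IsLocalRing R] [Algebra (ResidueField R) K] [IsScalarTower R (ResidueField R) K]

theorem ringKrullDim_of_equiv : ringKrullDim S = ringKrullDim R :=
  (ringKrullDim_eq_of_ringEquiv e.toRingEquiv).symm.trans ringKrullDim_eq

theorem isReduced_of_equiv : IsReduced S ↔ IsReduced R := by
  rw [← isReduced_iff (R := R) (K := K)]
  exact ⟨fun _ => isReduced_of_injective e e.injective,
    fun _ => isReduced_of_injective e.symm e.symm.injective⟩

theorem isNoetherianRing_of_equiv : IsNoetherianRing S ↔ IsNoetherianRing R := by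
  rw [← isNoetherianRing_iff (R := R) (K := K)]
  exact ⟨fun _ => isNoetherianRing_of_ringEquiv S e.toRingEquiv.symm,
    fun _ => isNoetherianRing_of_ringEquiv _ e.toRingEquiv⟩

theorem map_maximalIdeal_of_equiv [IsLocalRing S] :
    (maximalIdeal R).map (algebraMap R S) = maximalIdeal S := by
  rw [← AlgEquiv.map_map e, map_maximalIdeal]
  exact eq_maximalIdeal (Ideal.map_isMaximal_of_equiv e.toRingEquiv)

omit e in
theorem residueField_bijective_of_equiv [IsLocalRing S] [IsLocalHom (algebraMap R S)]
    (e : Hz R (ResidueField R) ≃ₐ[R] S) :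
    Function.Bijective (ResidueField.map (algebraMap R S)) := by
  refine ⟨RingHom.injective _, fun x => ?_⟩
  obtain ⟨s, rfl⟩ := residue_surjective x
  obtain ⟨z, rfl⟩ := e.surjective s
  obtain ⟨r, hr⟩ := exists_sub_algebraMap_mem z 1
  refine ⟨residue R r, ?_⟩
  rw [pow_one] at hr
  rw [ResidueField.map_residue, eq_comm]
  refine Ideal.Quotient.eq.2 ?_
  rw [← map_maximalIdeal_of_equiv e, ← AlgEquiv.map_map e]
  have := Ideal.mem_map_of_mem e.toAlgHom.toRingHom hr
  rwa [show e.toAlgHom.toRingHom (z - algebraMap R _ r) = e z - algebraMap R S r by simp] at this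

omit e in
theorem quotientMap_pow_bijective_of_equiv (e : Hz R (ResidueField R) ≃ₐ[R] S) (n : ℕ) :
    Function.Bijective (Ideal.quotientMap ((maximalIdeal R ^ n).map (algebraMap R S))
      (algebraMap R S) Ideal.le_comap_map) := by
  refine ⟨Ideal.quotientMap_injective' (fun r hr => ?_), fun y => ?_⟩
  · have h := Ideal.mem_map_of_mem e.symm.toAlgHom.toRingHom (Ideal.mem_comap.1 hr)
    rw [AlgEquiv.map_map e.symm] at h
    exact (comap_map_eq (K := ResidueField R) _).le (by simpa using h)
  · obtain ⟨x, rfl⟩ := Ideal.Quotient.mk_surjective y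
    obtain ⟨z, rfl⟩ := e.surjective x
    obtain ⟨r, hr⟩ := exists_sub_algebraMap_mem z n
    refine ⟨Ideal.Quotient.mk _ r, (Ideal.Quotient.eq.2 ?_).symm⟩
    rw [← AlgEquiv.map_map e]
    simpa using Ideal.mem_map_of_mem e.toAlgHom.toRingHom hr

end

end Groth.Agent.Henselization
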