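import Groth.Agent.Henselization.Transfer
import Groth.Agent.Depth.FlatLocal
import Mathlib.RingTheory.Localization.AtPrime.Basic

/-!
Localizations of the henselization at primes; Serre's conditions, associated primes.
-/

namespace Groth.Agent.Henselization

universe u

open IsLocalRing LocCoh

/-- Flat, with reduced zero-dimensional fibres. -/
structure FineFibres (R S : Type u) [CommRing R] [CommRing S] [Algebra R S] : Prop where
  flat : Module.Flat R S
  isRadical : ∀ p : Ideal R, p.IsPrime → (p.map (algebraMap R S)).IsRadical
  eq_of_le : ∀ P Q : Ideal S, P.IsPrime → Q.IsPrime → P ≤ Q →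
    P.comap (algebraMap R S) = Q.comap (algebraMap R S) → P = Q

noncomputable section

variable {R : Type u} [CommRing R] {S : Type u} [CommRing S] [Algebra R S]

theorem fineFibres_of_equiv {K : Type u} [Field K] [Algebra R K] [IsLocalRing R]
    [Algebra (ResidueField R) K] [IsScalarTower R (ResidueField R) K] (e : Hz R K ≃ₐ[R] S) :
    FineFibres R S where
  flat := Module.Flat.of_linearEquiv e.symm.toLinearEquiv
  isRadical p hp := by
    have h := AlgEquiv.map_map e.symm p
    intro x ⟨n, hn⟩
    have hx := Ideal.mem_map_of_mem e.symm.toAlgHom.toRingHom hn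
    rw [h, map_pow] at hx
    have := Ideal.mem_map_of_mem e.toAlgHom.toRingHom (isRadical_map hp.isRadical ⟨n, hx⟩)
    rw [AlgEquiv.map_map e] at this
    simpa using this
  eq_of_le P Q hP hQ hle h := by
    have h' := eq_of_le_of_comap_eq (P := P.comap e.toAlgHom.toRingHom)
      (Q := Q.comap e.toAlgHom.toRingHom) (Ideal.comap_mono hle) (by
        rw [Ideal.comap_comap, Ideal.comap_comap]
        convert h using 2 <;> exact RingHom.ext e.commutes)
    refine le_antisymm hle fun x hx => ?_
    obtain ⟨z, rfl⟩ := e.surjective x
    exact h'.ge hx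

variable (hS : FineFibres R S) (P : Ideal S) [P.IsPrime]
include hS

theorem FineFibres.map_atPrime :
    (P.comap (algebraMap R S)).map (algebraMap R (Localization.AtPrime P)) =
      maximalIdeal (Localization.AtPrime P) := by
  have hrad : ((P.comap (algebraMap R S)).map (algebraMap R (Localization.AtPrime P))).IsRadical := by
    rw [IsScalarTower.algebraMap_eq R S (Localization.AtPrime P), ← Ideal.map_map,
      ← Ideal.radical_eq_iff, ← IsLocalization.map_radical P.primeCompl,
      (hS.isRadical _ inferInstance).radical]
  rw [← hrad.radical, Ideal.radical_eq_sInf]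
  refine le_antisymm (sInf_le ⟨?_, inferInstance⟩) (le_sInf fun Q ⟨hle, hQ⟩ => ?_)
  · rw [Ideal.map_le_iff_le_comap, IsScalarTower.algebraMap_eq R S (Localization.AtPrime P),
      ← Ideal.comap_comap]
    exact Ideal.comap_mono (IsLocalization.AtPrime.comap_maximalIdeal _ P).ge
  · have hle' : Q.comap (algebraMap S (Localization.AtPrime P)) ≤ P := by
      exact (Ideal.comap_mono (le_maximalIdeal hQ.ne_top)).trans
        (IsLocalization.AtPrime.comap_maximalIdeal _ P).le
    have := hS.eq_of_le _ P inferInstance inferInstance hle' (le_antisymm (Ideal.comap_mono hle') ?_)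
    · rw [← Localization.AtPrime.map_eq_maximalIdeal]
      exact Ideal.map_le_iff_le_comap.2 this.ge
    · rw [Ideal.comap_comap, ← IsScalarTower.algebraMap_eq]
      exact Ideal.map_le_iff_le_comap.1 hle

theorem FineFibres.atPrime (p : Ideal R) [p.IsPrime] [P.LiesOver p] :
    letI := Localization.AtPrime.algebraOfLiesOver p P
    Module.Flat (Localization.AtPrime p) (Localization.AtPrime P) ∧
      (maximalIdeal (Localization.AtPrime p)).map
          (algebraMap (Localization.AtPrime p) (Localization.AtPrime P)) =
        maximalIdeal (Localization.AtPrime P) := by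
  let _ := Localization.AtPrime.algebraOfLiesOver p P
  have : IsScalarTower R (Localization.AtPrime p) (Localization.AtPrime P) := inferInstance
  have := hS.flat
  have : Module.Flat R (Localization.AtPrime P) :=
    have : Module.Flat S (Localization.AtPrime P) := IsLocalization.flat _ P.primeCompl
    Module.Flat.trans R S _
  refine ⟨(Module.flat_iff_of_isLocalization (Localization.AtPrime p) p.primeCompl
    (Localization.AtPrime P)).2 this, ?_⟩
  rw [← Localization.AtPrime.map_eq_maximalIdeal, Ideal.map_map, ← IsScalarTower.algebraMap_eq,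
    Ideal.LiesOver.over (P := P) (p := p)]
  exact hS.map_atPrime P

variable [IsNoetherianRing R] [IsNoetherianRing S] (p : Ideal R) [p.IsPrime] [P.LiesOver p]

theorem FineFibres.ringKrullDim_atPrime :
    ringKrullDim (Localization.AtPrime P) = ringKrullDim (Localization.AtPrime p) :=
  let _ := Localization.AtPrime.algebraOfLiesOver p P
  have := (hS.atPrime P p).1
  Depth.ringKrullDim_eq_of_map_maximalIdeal _ _ (hS.atPrime P p).2

theorem FineFibres.depth_atPrime :
    depth (Localization.AtPrime P) (Localization.AtPrime P) =
      depth (Localization.AtPrime p) (Localization.AtPrime p) :=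
  let _ := Localization.AtPrime.algebraOfLiesOver p P
  have := (hS.atPrime P p).1
  Depth.depth_eq_of_map_maximalIdeal _ _ (hS.atPrime P p).2

theorem FineFibres.isRegularLocalRing_atPrime :
    IsRegularLocalRing (Localization.AtPrime P) ↔ IsRegularLocalRing (Localization.AtPrime p) :=
  let _ := Localization.AtPrime.algebraOfLiesOver p P
  have := (hS.atPrime P p).1
  Depth.isRegularLocalRing_iff_of_map_maximalIdeal _ _ (hS.atPrime P p).2

omit [P.IsPrime] [P.LiesOver p]

theorem FineFibres.hasSk_iff [Module.FaithfullyFlat R S] (k : ℕ) :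
    HasSk k S S ↔ HasSk k R R := by
  constructor
  · intro h p _
    obtain ⟨⟨P, hP⟩, hPp⟩ := PrimeSpectrum.comap_surjective_of_faithfullyFlat (B := S) ⟨p, ‹_›⟩
    have : P.LiesOver p := ⟨(congrArg PrimeSpectrum.asIdeal hPp).symm⟩
    have := h P
    rwa [Depth.supportDim_localizedSelf, Depth.depth_localizedSelf, hS.ringKrullDim_atPrime P p,
      hS.depth_atPrime P p, ← Depth.supportDim_localizedSelf, ← Depth.depth_localizedSelf] at this
  · intro h P _
    have := h (P.under R)
    rwa [Depth.supportDim_localizedSelf, Depth.depth_localizedSelf,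
      ← hS.ringKrullDim_atPrime P (P.under R), ← hS.depth_atPrime P (P.under R),
      ← Depth.supportDim_localizedSelf, ← Depth.depth_localizedSelf] at this

theorem FineFibres.hasRk_iff [Module.FaithfullyFlat R S] (k : ℕ) : HasRk k S ↔ HasRk k R := by
  have key : ∀ (P : Ideal S) [P.IsPrime] (p : Ideal R) [p.IsPrime] [P.LiesOver p],
      P.height = p.height := fun P _ p _ _ => by
    have := hS.ringKrullDim_atPrime P p
    rwa [IsLocalization.AtPrime.ringKrullDim_eq_height P,
      IsLocalization.AtPrime.ringKrullDim_eq_height p, WithBot.coe_inj] at this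
  constructor
  · intro h p _ hp
    obtain ⟨⟨P, hP⟩, hPp⟩ := PrimeSpectrum.comap_surjective_of_faithfullyFlat (B := S) ⟨p, ‹_›⟩
    have : P.LiesOver p := ⟨(congrArg PrimeSpectrum.asIdeal hPp).symm⟩
    exact (hS.isRegularLocalRing_atPrime P p).1 (h P ((key P p).trans_le hp))
  · intro h P _ hP
    exact (hS.isRegularLocalRing_atPrime P (P.under R)).2
      (h _ ((key P (P.under R)).symm.trans_le hP))

end

end Groth.Agent.Henselization
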