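import Groth.Agent.Henselization.Construction
import Groth.Prelude.Def_Hensel
import Mathlib.RingTheory.Flat.EquationalCriterion
import Mathlib.RingTheory.Flat.Localization
import Mathlib.RingTheory.Flat.FaithfullyFlat.Algebra
import Mathlib.RingTheory.Smooth.Flat
import Mathlib.FieldTheory.IsSepClosed

/-!
Existence, uniqueness and faithful flatness of (strict) henselizations.
-/

namespace Groth.Agent.Henselization

universe u

open IsLocalRing

noncomputable section

variable {R : Type u} [CommRing R] {K : Type u} [Field K] [Algebra R K]

theorem Idx.flat (i : Idx R K) : Module.Flat R i.L :=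
  have : Module.Flat i.S i.L := IsLocalization.flat i.L i.q.primeCompl
  Module.Flat.trans R i.S i.L

theorem exists_lift_finset (s : Finset (Hz R K)) :
    ∃ i : Idx R K, ∀ z ∈ s, ∃ x, ι i x = z := by
  classical
  choose idx x hx using fun z : Hz R K => exists_ι z
  obtain ⟨i, hi⟩ := Finset.exists_le (s.image idx)
  exact ⟨i, fun z hz => ⟨tr _ _ (hi _ (Finset.mem_image_of_mem _ hz)) (x z),
    (ι_tr _ _ _ _).trans (hx z)⟩⟩

theorem exists_lift_zero {i : Idx R K} {x : i.L} (h : ι i x = 0) :
    ∃ j, ∃ hij : i ≤ j, tr i j hij x = 0 := by
  rw [← map_zero (ι i)] at h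
  obtain ⟨j, hij, _, hj⟩ := Quotient.exact h
  exact ⟨j, hij, hj.trans (map_zero _)⟩

instance flat : Module.Flat R (Hz R K) := by
  classical
  refine Module.Flat.of_forall_isTrivialRelation (R := R) (M := Hz R K) fun {l f x} h => ?_
  obtain ⟨i, hi⟩ := exists_lift_finset (Finset.univ.image x)
  choose y hy using fun k => hi (x k) (Finset.mem_image_of_mem x (Finset.mem_univ k))
  have h' : ι i (∑ k, f k • y k) = 0 := by simpa [map_sum, hy] using h
  obtain ⟨j, hij, hj⟩ := exists_lift_zero h'
  rw [map_sum] at hj
  simp only [map_smul] at hj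
  have := Idx.flat j
  obtain ⟨k, a, z, hz, ha⟩ := Module.Flat.isTrivialRelation_of_sum_smul_eq_zero (R := R) (M := j.L) (f := f)
    (x := fun c => tr i j hij (y c)) hj
  refine ⟨k, a, fun c => ι j (z c), fun c => ?_, ha⟩
  rw [← hy c, ← ι_tr i j hij, show tr i j hij (y c) = ∑ d, a c d • z d from hz c, map_sum]
  exact Finset.sum_congr rfl fun d _ => map_smul (ι j).toLinearMap (a c d) (z d)

section Local

variable [IsLocalRing R] [Algebra (ResidueField R) K] [IsScalarTower R (ResidueField R) K]

instance faithfullyFlat : Module.FaithfullyFlat R (Hz R K) :=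
  Module.FaithfullyFlat.of_flat_of_isLocalHom

variable (R K) in
/-- The point, on the residue field. -/
def εRes : ResidueField (Hz R K) →+* K :=
  Ideal.Quotient.lift _ (εH R K).toRingHom fun a ha => (mem_maximalIdeal_iff a).1 ha

theorem εRes_residue (x : Hz R K) : εRes R K (residue _ x) = εH R K x := rfl

theorem εRes_bijective [Algebra.IsSeparable (ResidueField R) K] :
    Function.Bijective (εRes R K) :=
  ⟨RingHom.injective _, fun x => by
    obtain ⟨z, hz⟩ := εH_surjective (R := R) (K := K) x
    exact ⟨residue _ z, hz⟩⟩

variable (R K) in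
/-- The residue field of the colimit is `K`. -/
def resEquiv [Algebra.IsSeparable (ResidueField R) K] :
    ResidueField (Hz R K) ≃ₐ[ResidueField R] K :=
  AlgEquiv.ofRingEquiv (f := RingEquiv.ofBijective (εRes R K) εRes_bijective) fun x => by
    obtain ⟨r, rfl⟩ := residue_surjective x
    show εRes R K (residue _ (algebraMap R (Hz R K) r)) = _
    rw [εRes_residue, AlgHom.commutes, ← ResidueField.algebraMap_eq,
      ← IsScalarTower.algebraMap_apply]

end Local

section Henselization

variable (R) [IsLocalRing R]

/-- The henselization. -/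
abbrev HenselizationRing : Type u := Hz R (ResidueField R)

instance : Hensel.IsHenselization R (HenselizationRing R) where
  henselian := inferInstance
  universal T _ _ f hf := by
    obtain ⟨g, ⟨hg, hgr⟩, hu⟩ := existsUnique_hom f (ResidueField.map f) (RingHom.ext fun r => rfl)
    refine ⟨g, hg, fun g' hg' => hu g' ⟨hg', fun x => ?_⟩⟩
    obtain ⟨r, hr⟩ := residue_surjective (εH R (ResidueField R) x)
    have hx : x - algebraMap R _ r ∈ maximalIdeal (HenselizationRing R) := by
      rw [mem_maximalIdeal_iff, map_sub, AlgHom.commutes, ResidueField.algebraMap_eq, hr, sub_self]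
    rw [← map_maximalIdeal] at hx
    have hx' := Ideal.mem_map_of_mem g' hx
    rw [Ideal.map_map, hg', map_sub] at hx'
    have hle : (maximalIdeal R).map f ≤ maximalIdeal T :=
      ((local_hom_TFAE f).out 0 2 rfl rfl).mp hf
    have := Ideal.Quotient.eq.2 (hle hx')
    rw [show residue T (g' x) = residue T (g' (algebraMap R _ r)) from this, ← hr,
      show g' (algebraMap R _ r) = f r from RingHom.congr_fun hg' r]
    rfl

theorem exists_algEquiv_of_isHenselization (S : Type u) [CommRing S] [IsLocalRing S] [Algebra R S]
    [IsLocalHom (algebraMap R S)] [hS : Hensel.IsHenselization R S] :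
    Nonempty (HenselizationRing R ≃ₐ[R] S) := by
  have hH : Hensel.IsHenselization R (HenselizationRing R) := inferInstance
  have := hS.henselian
  obtain ⟨g, hg, -⟩ := hH.universal S (algebraMap R S) inferInstance
  obtain ⟨g', hg', -⟩ := hS.universal (HenselizationRing R) (algebraMap R _) inferInstance
  have h1 : g.comp g' = RingHom.id S :=
    (hS.universal S (algebraMap R S) inferInstance).unique (by rw [RingHom.comp_assoc, hg', hg])
      (RingHom.id_comp _)
  have h2 : g'.comp g = RingHom.id _ :=
    (hH.universal _ (algebraMap R (HenselizationRing R)) inferInstance).unique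
      (by rw [RingHom.comp_assoc, hg, hg']) (RingHom.id_comp _)
  exact ⟨{ toRingEquiv := RingEquiv.ofRingHom g g' h1 h2, commutes' := RingHom.congr_fun hg }⟩

theorem exists_henselization :
    ∃ (S : Type u) (_ : CommRing S) (_ : IsLocalRing S) (_ : Algebra R S)
      (_ : IsLocalHom (algebraMap R S)), Hensel.IsHenselization R S :=
  ⟨HenselizationRing R, inferInstance, inferInstance, inferInstance, inferInstance, inferInstance⟩

end Henselization

section Strict

variable (R) [IsLocalRing R]

/-- The strict henselization. -/
abbrev StrictHenselizationRing : Type u := Hz R (SeparableClosure (ResidueField R))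

instance : Hensel.IsStrictHenselization R (StrictHenselizationRing R) where
  henselian := inferInstance
  isSepClosure :=
    let e := resEquiv R (SeparableClosure (ResidueField R))
    ⟨IsSepClosed.of_exists_root _ fun p _ hp hs => by
        obtain ⟨x, hx⟩ := IsSepClosed.exists_root (p.map e.toRingEquiv.toRingHom)
          (by rw [Polynomial.degree_map]; exact (Polynomial.degree_pos_of_irreducible hp).ne')
          ((Polynomial.separable_map _).2 hs)
        exact ⟨e.symm x, e.injective (by
          rw [map_zero, ← hx]
          show e.toRingEquiv.toRingHom (Polynomial.eval _ p) = _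
          rw [Polynomial.eval_map, ← Polynomial.eval₂_at_apply,
            show e.toRingEquiv.toRingHom (e.symm x) = x from e.apply_symm_apply x])⟩,
      AlgEquiv.Algebra.isSeparable e.symm⟩
  universal T _ _ f _ τ hτ := by
    let e := resEquiv R (SeparableClosure (ResidueField R))
    let τ' : SeparableClosure (ResidueField R) →+* ResidueField T := τ.comp (e.symm : _ →+* _)
    have hτ' : τ'.comp (algebraMap R _) = (residue T).comp f := RingHom.ext fun r => by
      show τ (e.symm (algebraMap R _ r)) = _
      rw [IsScalarTower.algebraMap_apply R (ResidueField R), e.symm.commutes]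
      exact (RingHom.congr_fun hτ (residue R r)).trans (ResidueField.map_residue f r)
    obtain ⟨g, ⟨hg, hgr⟩, hu⟩ := existsUnique_hom f τ' hτ'
    have hε : ∀ x, τ' (εH R _ x) = τ (residue _ x) := fun x => by
      show τ (e.symm (e (residue _ x))) = _
      rw [e.symm_apply_apply]
    exact ⟨g, ⟨hg, fun x => (hgr x).trans (hε x)⟩,
      fun g' ⟨h1, h2⟩ => hu g' ⟨h1, fun x => (h2 x).trans (hε x).symm⟩⟩

theorem exists_algEquiv_of_isStrictHenselization (S : Type u) [CommRing S] [IsLocalRing S]
    [Algebra R S] [IsLocalHom (algebraMap R S)] [hS : Hensel.IsStrictHenselization R S] :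
    Nonempty (StrictHenselizationRing R ≃ₐ[R] S) := by
  let H := StrictHenselizationRing R
  have hH : Hensel.IsStrictHenselization R H := inferInstance
  have := hS.henselian
  have := hS.isSepClosure
  have := hH.isSepClosure
  let e : ResidueField H ≃ₐ[ResidueField R] ResidueField S :=
    IsSepClosure.equiv (ResidueField R) (ResidueField H) (ResidueField S)
  have hc : ∀ (r : R), algebraMap (ResidueField R) (ResidueField S) (residue R r) =
      residue S (algebraMap R S r) := fun r => rfl
  obtain ⟨g, ⟨hg, hgr⟩, -⟩ := hH.universal S (algebraMap R S) (e : _ →+* _)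
    (RingHom.ext fun x => e.commutes x)
  obtain ⟨g', ⟨hg', hgr'⟩, -⟩ := hS.universal H (algebraMap R _) (e.symm : _ →+* _)
    (RingHom.ext fun x => e.symm.commutes x)
  have h1 : g.comp g' = RingHom.id S :=
    (hS.universal S (algebraMap R S) (RingHom.id _) (RingHom.id_comp _)).unique
      ⟨by rw [RingHom.comp_assoc, hg', hg], fun x => by
        show residue S (g (g' x)) = residue S x
        rw [hgr, hgr']
        exact e.apply_symm_apply _⟩ ⟨RingHom.id_comp _, fun _ => rfl⟩
  have h2 : g'.comp g = RingHom.id _ :=
    (hH.universal H (algebraMap R H) (RingHom.id _) (RingHom.id_comp _)).unique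
      ⟨by rw [RingHom.comp_assoc, hg, hg'], fun x => by
        show residue H (g' (g x)) = residue H x
        rw [hgr', hgr]
        exact e.symm_apply_apply _⟩ ⟨RingHom.id_comp _, fun _ => rfl⟩
  exact ⟨{ toRingEquiv := RingEquiv.ofRingHom g g' h1 h2, commutes' := RingHom.congr_fun hg }⟩

theorem exists_strictHenselization :
    ∃ (S : Type u) (_ : CommRing S) (_ : IsLocalRing S) (_ : Algebra R S)
      (_ : IsLocalHom (algebraMap R S)), Hensel.IsStrictHenselization R S :=
  ⟨StrictHenselizationRing R, inferInstance, inferInstance, inferInstance, inferInstance,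
    inferInstance⟩

end Strict

end

end Groth.Agent.Henselization
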