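import Groth.Agent.Henselization.Transfer
import Groth.Prelude.Def_PBC
import Mathlib.CategoryTheory.Comma.Over.Basic

/-!
The (strict) henselization is ind-étale: the category of étale algebras with a point is filtered and
the colimit of the algebras is `Hz R K`.
-/

namespace Groth.Agent.Henselization

universe u

open CategoryTheory Limits

noncomputable section

variable (R : Type u) [CommRing R] (K : Type u) [Field K] [Algebra R K]

/-- The category of presented étale algebras with a point. -/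
structure IdxCat : Type u where
  idx : Idx R K

variable {R K}

/-- Morphisms of étale algebras with a point. -/
def IdxCat.Hom' (X Y : IdxCat R K) : Type u :=
  {f : X.idx.S →ₐ[R] Y.idx.S // Y.idx.pt.comp f = X.idx.pt}

instance : SmallCategory (IdxCat R K) where
  Hom := IdxCat.Hom'
  id X := ⟨AlgHom.id R _, rfl⟩
  comp f g := ⟨g.1.comp f.1, by rw [← AlgHom.comp_assoc, g.2, f.2]⟩
  id_comp f := Subtype.ext (AlgHom.comp_id f.1)
  comp_id f := Subtype.ext (AlgHom.id_comp f.1)
  assoc f g h := Subtype.ext (AlgHom.comp_assoc h.1 g.1 f.1).symm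

theorem exists_idx_equiv (S : Type u) [CommRing S] [Algebra R S] [Algebra.Etale R S]
    (σ : S →ₐ[R] K) : ∃ (j : Idx R K) (e : S ≃ₐ[R] j.S), j.pt.comp e.toAlgHom = σ := by
  classical
  obtain ⟨n, π, hπ, hker⟩ := (inferInstance : Algebra.FinitePresentation R S).out
  obtain ⟨s, hs⟩ := hker
  let rel : Fin s.card → MvPolynomial (Fin n) R := fun k => (s.equivFin.symm k : MvPolynomial (Fin n) R)
  have hrel : Ideal.span (Set.range rel) = RingHom.ker π := by
    rw [show Set.range rel = (s : Set (MvPolynomial (Fin n) R)) from ?_]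
    · exact hs
    ext x
    exact ⟨fun ⟨k, hk⟩ => hk ▸ (s.equivFin.symm k).2, fun hx => ⟨s.equivFin ⟨x, hx⟩, by simp [rel]⟩⟩
  let e₀ : (MvPolynomial (Fin n) R ⧸ Ideal.span (Set.range rel)) ≃ₐ[R] S :=
    (Ideal.quotientEquivAlgOfEq R hrel).trans (Ideal.quotientKerAlgEquivOfSurjective hπ)
  refine ⟨⟨n, s.card, rel, σ.comp e₀.toAlgHom, Algebra.Etale.of_equiv e₀.symm⟩, e₀.symm,
    AlgHom.ext fun x => ?_⟩
  show σ (e₀ (e₀.symm x)) = σ x
  rw [e₀.apply_symm_apply]

/-- Inverting an element outside the point. -/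
theorem exists_hom_isUnit (X : IdxCat R K) {s : X.idx.S} (hs : X.idx.pt s ≠ 0) :
    ∃ (Y : IdxCat R K) (f : X ⟶ Y), IsUnit (f.1 s) ∧
      ∀ a, s * a = 0 → f.1 a = 0 := by
  let σ : Localization.Away s →ₐ[R] K := IsLocalization.liftAlgHom (M := Submonoid.powers s)
    (f := X.idx.pt) (fun ⟨_, k, hk⟩ => by subst hk; simpa using (isUnit_iff_ne_zero.2 hs).pow k)
  obtain ⟨j, e, he⟩ := exists_idx_equiv (Localization.Away s) σ
  let f : X.idx.S →ₐ[R] j.S := e.toAlgHom.comp (IsScalarTower.toAlgHom R X.idx.S _)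
  have hf : j.pt.comp f = X.idx.pt := by
    rw [← AlgHom.comp_assoc, he]
    exact AlgHom.ext fun x => IsLocalization.lift_eq _ x
  have hu : IsUnit (f s) := (IsLocalization.Away.algebraMap_isUnit (S := Localization.Away s) s).map e
  refine ⟨⟨j⟩, ⟨f, hf⟩, hu, fun a ha => hu.mul_left_cancel ?_⟩
  show f s * f a = _
  rw [← map_mul, ha, map_zero, mul_zero]

theorem exists_hom_tensor (X Y : IdxCat R K) :
    ∃ (Z : IdxCat R K), Nonempty (X ⟶ Z) ∧ Nonempty (Y ⟶ Z) := by
  have : Algebra.Etale R (TensorProduct R X.idx.S Y.idx.S) := Algebra.Etale.comp R X.idx.S _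
  obtain ⟨k, e, he⟩ := exists_idx_equiv (TensorProduct R X.idx.S Y.idx.S)
    (Algebra.TensorProduct.lift X.idx.pt Y.idx.pt fun _ _ => Commute.all _ _)
  refine ⟨⟨k⟩, ⟨⟨e.toAlgHom.comp Algebra.TensorProduct.includeLeft, ?_⟩⟩,
    ⟨⟨e.toAlgHom.comp Algebra.TensorProduct.includeRight, ?_⟩⟩⟩
  all_goals rw [← AlgHom.comp_assoc, he]; exact AlgHom.ext fun x => by simp

instance : IsFilteredOrEmpty (IdxCat R K) where
  cocone_objs X Y := by
    obtain ⟨Z, ⟨f⟩, ⟨g⟩⟩ := exists_hom_tensor X Y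
    exact ⟨Z, f, g, trivial⟩
  cocone_maps X Y f g := by
    classical
    obtain ⟨t, ht⟩ := (inferInstance : Algebra.FiniteType R X.idx.S).out
    let toL : Y.idx.S →ₐ[R] Y.idx.L := IsScalarTower.toAlgHom R Y.idx.S Y.idx.L
    have hfg : toL.comp f.1 = toL.comp g.1 := hom_ext_of_etale Y.idx (AlgHom.ext fun x => by
      show Y.idx.ε (algebraMap _ _ (f.1 x)) = Y.idx.ε (algebraMap _ _ (g.1 x))
      rw [Y.idx.ε_algebraMap, Y.idx.ε_algebraMap, ← AlgHom.comp_apply, f.2, ← AlgHom.comp_apply, g.2])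
    choose s hs using fun x : X.idx.S => IsLocalization.exists_of_eq (M := Y.idx.q.primeCompl)
      (show algebraMap Y.idx.S Y.idx.L (f.1 x) = algebraMap _ _ (g.1 x) from AlgHom.congr_fun hfg x)
    obtain ⟨Z, h, -, hh⟩ := exists_hom_isUnit Y (s := ((∏ x ∈ t, s x : Y.idx.q.primeCompl) : Y.idx.S))
      (fun hz => (∏ x ∈ t, s x : Y.idx.q.primeCompl).2 hz)
    refine ⟨Z, h, Subtype.ext (AlgHom.ext_of_adjoin_eq_top ht fun x hx => ?_)⟩
    show h.1 (f.1 x) = h.1 (g.1 x)
    rw [← sub_eq_zero, ← map_sub]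
    refine hh _ ?_
    rw [← Finset.mul_prod_erase t s hx, Submonoid.coe_mul, mul_comm (s x : Y.idx.S), mul_assoc,
      mul_sub, hs x, sub_self, mul_zero]

instance : IsFiltered (IdxCat R K) where
  nonempty := ⟨⟨Classical.arbitrary (Idx R K)⟩⟩

variable (R K)

/-- The diagram of étale algebras. -/
def diagram : IdxCat R K ⥤ Under (CommRingCat.of R) where
  obj X := Under.mk (CommRingCat.ofHom (algebraMap R X.idx.S))
  map {X Y} f := Under.homMk (CommRingCat.ofHom f.1.toRingHom)
    (CommRingCat.hom_ext f.1.comp_algebraMap)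
  map_id X := Under.UnderMorphism.ext rfl
  map_comp f g := Under.UnderMorphism.ext rfl

/-- The cocone of the diagram with point `Hz R K`. -/
def cocone : Cocone (diagram R K) where
  pt := Under.mk (CommRingCat.ofHom (algebraMap R (Hz R K)))
  ι :=
    { app := fun X => Under.homMk
        (CommRingCat.ofHom ((ι X.idx).comp (IsScalarTower.toAlgHom R X.idx.S X.idx.L)).toRingHom)
        (CommRingCat.hom_ext ((ι X.idx).comp (IsScalarTower.toAlgHom R X.idx.S X.idx.L)).comp_algebraMap)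
      naturality := fun X Y f => Under.UnderMorphism.ext <| CommRingCat.hom_ext <| RingHom.ext fun x => by
        have hle : X.idx ≤ Y.idx := le_of_hom
          ((IsScalarTower.toAlgHom R Y.idx.S Y.idx.L).comp f.1) (AlgHom.ext fun y => by
            show Y.idx.ε (algebraMap _ _ (f.1 y)) = _
            rw [Y.idx.ε_algebraMap, ← AlgHom.comp_apply, f.2])
        have h := hom_ext_of_etale Y.idx
          (f := (IsScalarTower.toAlgHom R Y.idx.S Y.idx.L).comp f.1)
          (g := (tr X.idx Y.idx hle).comp (IsScalarTower.toAlgHom R X.idx.S X.idx.L))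
          (AlgHom.ext fun y => by
            show Y.idx.ε (algebraMap _ _ (f.1 y)) = Y.idx.ε (tr X.idx Y.idx hle (algebraMap _ _ y))
            rw [Y.idx.ε_algebraMap, ← AlgHom.comp_apply, f.2, ← AlgHom.comp_apply Y.idx.ε, ε_tr,
              X.idx.ε_algebraMap])
        show ι Y.idx (algebraMap Y.idx.S Y.idx.L (f.1 x)) = ι X.idx (algebraMap X.idx.S X.idx.L x)
        rw [← ι_tr X.idx Y.idx hle]
        exact congrArg _ (AlgHom.congr_fun h x) }

variable {R K} in
theorem existsUnique_desc {T : Type u} [CommRing T] [Algebra R T]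
    (t : ∀ X : IdxCat R K, X.idx.S →ₐ[R] T)
    (ht : ∀ {X Y : IdxCat R K} (f : X ⟶ Y), (t Y).comp f.1 = t X) :
    ∃! g : Hz R K →ₐ[R] T, ∀ (X : IdxCat R K) (x : X.idx.S),
      g (Henselization.ι X.idx (algebraMap _ _ x)) = t X x := by
  have hu : ∀ (i : Idx R K) (s : i.q.primeCompl), IsUnit (t ⟨i⟩ s) := fun i s => by
    obtain ⟨Y, f, hf, -⟩ := exists_hom_isUnit ⟨i⟩ (s := (s : i.S)) s.2
    rw [← ht f]
    exact hf.map (t Y)
  let tL : ∀ i : Idx R K, i.L →ₐ[R] T := fun i =>
    IsLocalization.liftAlgHom (M := i.q.primeCompl) (f := t ⟨i⟩) (hu i)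
  have htL : ∀ i x, tL i (algebraMap i.S i.L x) = t ⟨i⟩ x := fun i x => IsLocalization.lift_eq _ x
  have hcompat : ∀ i j h, ∀ x, tL j (tr i j h x) = tL i x := by
    intro i j h
    refine AlgHom.congr_fun (IsLocalization.algHom_ext i.q.primeCompl
      (f := (tL j).comp (tr i j h)) (g := tL i) (AlgHom.ext fun x => ?_))
    show tL j (tr i j h (algebraMap i.S i.L x)) = tL i (algebraMap i.S i.L x)
    obtain ⟨⟨a, s⟩, hy⟩ := IsLocalization.surj j.q.primeCompl (tr i j h (algebraMap i.S i.L x))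
    obtain ⟨k, ⟨e₁⟩, ⟨e₂⟩⟩ := exists_hom_tensor (⟨i⟩ : IdxCat R K) ⟨j⟩
    let toK : k.idx.S →ₐ[R] k.idx.L := IsScalarTower.toAlgHom R k.idx.S k.idx.L
    have hjk : j ≤ k.idx := le_of_hom (toK.comp e₂.1) (AlgHom.ext fun y => by
      show k.idx.ε (algebraMap _ _ (e₂.1 y)) = _
      rw [k.idx.ε_algebraMap, ← AlgHom.comp_apply, e₂.2])
    have h2 : (tr j k.idx hjk).comp (IsScalarTower.toAlgHom R j.S j.L) = toK.comp e₂.1 :=
      hom_ext_of_etale k.idx (AlgHom.ext fun y => by
        show k.idx.ε (tr j k.idx hjk (algebraMap _ _ y)) = k.idx.ε (algebraMap _ _ (e₂.1 y))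
        rw [k.idx.ε_algebraMap, ← AlgHom.comp_apply, ε_tr, j.ε_algebraMap, ← AlgHom.comp_apply, e₂.2])
    have h1 : ((tr j k.idx hjk).comp (tr i j h)).comp (IsScalarTower.toAlgHom R i.S i.L) =
        toK.comp e₁.1 :=
      hom_ext_of_etale k.idx (AlgHom.ext fun y => by
        show k.idx.ε (tr j k.idx hjk (tr i j h (algebraMap _ _ y))) =
          k.idx.ε (algebraMap _ _ (e₁.1 y))
        rw [k.idx.ε_algebraMap, ← AlgHom.comp_apply, ε_tr, ← AlgHom.comp_apply, ε_tr,
          i.ε_algebraMap, ← AlgHom.comp_apply, e₁.2])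
    have hk : algebraMap _ k.idx.L (e₁.1 x) * algebraMap _ _ (e₂.1 s) = algebraMap _ _ (e₂.1 a) := by
      have h3 := congrArg (tr j k.idx hjk) hy
      rw [map_mul] at h3
      have e2s := AlgHom.congr_fun h2 s
      have e2a := AlgHom.congr_fun h2 a
      have e1x := AlgHom.congr_fun h1 x
      simp only [AlgHom.comp_apply, IsScalarTower.coe_toAlgHom', toK] at e2s e2a e1x
      rwa [e2s, e2a, e1x] at h3
    have h4 := congrArg (tL k.idx) hk
    rw [map_mul, htL, htL, htL] at h4
    have h5 := congrArg (tL j) hy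
    rw [map_mul, htL, htL] at h5
    rw [htL]
    have e2s : t k (e₂.1 s) = t ⟨j⟩ s := AlgHom.congr_fun (ht e₂) s
    have e2a : t k (e₂.1 a) = t ⟨j⟩ a := AlgHom.congr_fun (ht e₂) a
    have e1x : t k (e₁.1 x) = t ⟨i⟩ x := AlgHom.congr_fun (ht e₁) x
    rw [show t ⟨k.idx⟩ = t k from rfl, e2s, e2a, e1x, ← h5] at h4
    exact ((hu j s).mul_right_cancel h4).symm
  refine ⟨DirectLimit.Algebra.lift _ _ T tL hcompat, fun X x => htL X.idx x, fun g hg => ?_⟩
  refine AlgHom.ext fun z => ?_
  obtain ⟨i, x, rfl⟩ := exists_ι z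
  exact AlgHom.congr_fun (IsLocalization.algHom_ext i.q.primeCompl (f := g.comp (Henselization.ι i))
    (g := tL i) (AlgHom.ext fun y => (hg ⟨i⟩ y).trans (htL i y).symm)) x

variable {R K} in
theorem existsUnique_desc_cocone (s : Cocone (diagram R K)) :
    ∃! g : (cocone R K).pt ⟶ s.pt, ∀ X, (cocone R K).ι.app X ≫ g = s.ι.app X := by
  let _ : Algebra R s.pt.right := s.pt.hom.hom.toAlgebra
  let t : ∀ X : IdxCat R K, X.idx.S →ₐ[R] s.pt.right := fun X =>
    { toRingHom := (s.ι.app X).right.hom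
      commutes' := fun r => RingHom.congr_fun (congrArg CommRingCat.Hom.hom (Under.w (s.ι.app X))) r }
  obtain ⟨g, hg, hu⟩ := existsUnique_desc t fun {X Y} f => AlgHom.ext fun x =>
    RingHom.congr_fun (congrArg (fun m => CommRingCat.Hom.hom (CommaMorphism.right m)) (s.w f)) x
  refine ⟨Under.homMk (CommRingCat.ofHom g.toRingHom) (CommRingCat.hom_ext g.comp_algebraMap),
    fun X => Under.UnderMorphism.ext (CommRingCat.hom_ext (RingHom.ext fun x => hg X x)),
    fun m hm => ?_⟩
  let m' : Hz R K →ₐ[R] s.pt.right :=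
    { toRingHom := m.right.hom
      commutes' := fun r => RingHom.congr_fun (congrArg CommRingCat.Hom.hom (Under.w m)) r }
  have hm' : m' = g := hu m' fun X x =>
    RingHom.congr_fun (congrArg (fun m => CommRingCat.Hom.hom (CommaMorphism.right m)) (hm X)) x
  exact Under.UnderMorphism.ext (CommRingCat.hom_ext (congrArg AlgHom.toRingHom hm'))

/-- The cocone is a colimit. -/
def isColimitCocone : IsColimit (cocone R K) :=
  IsColimit.ofExistsUnique existsUnique_desc_cocone

variable {R K} in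
theorem isIndEtale_of_equiv {S : Type u} [CommRing S] [Algebra R S] (e : Hz R K ≃ₐ[R] S) :
    EtPBC.IsIndEtale R S := by
  refine ⟨IdxCat R K, inferInstance, inferInstance, diagram R K, cocone R K, isColimitCocone R K,
    fun j => ?_, ⟨Under.isoMk e.toRingEquiv.toCommRingCatIso
      (CommRingCat.hom_ext e.toAlgHom.comp_algebraMap)⟩⟩
  have : ((diagram R K).obj j).hom.hom.toAlgebra = (inferInstance : Algebra R j.idx.S) :=
    Algebra.algebra_ext _ _ fun r => rfl
  show @Algebra.Etale R j.idx.S _ _ ((diagram R K).obj j).hom.hom.toAlgebra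
  rw [this]
  exact j.idx.etale

end

end Groth.Agent.Henselization
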