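import Groth.Agent.Henselization.Basic
import Groth.Agent.EtaleLib.Reduced
import Groth.Agent.RegLocal.Complete
import Mathlib.RingTheory.Unramified.Finite
import Mathlib.RingTheory.Ideal.GoingDown
import Mathlib.RingTheory.Etale.QuasiFinite
import Mathlib.RingTheory.Spectrum.Prime.RingHom
import Mathlib.RingTheory.AdicCompletion.Completeness
import Mathlib.RingTheory.Filtration

/-!
Basic properties of the (strict) henselization.
-/

/-- A ring which is "adically closed" for a finitely generated ideal with noetherian quotient is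
noetherian. -/
theorem Groth.Agent.Henselization.isNoetherianRing_of_closed {H : Type*} [CommRing H]
    (M : Ideal H) (hM : M.FG) [IsNoetherianRing (H ⧸ M)]
    (hclosed : ∀ J : Ideal H, J.FG → ⨅ n : ℕ, J ⊔ M ^ n ≤ J) : IsNoetherianRing H := by
  classical
  have := Groth.Agent.RegLocal.isNoetherianRing_adicCompletion M hM
  rw [isNoetherianRing_iff_ideal_fg]
  intro J
  have hfg : (Ideal.span (algebraMap H (AdicCompletion M H) '' (J : Set H))).FG :=
    IsNoetherian.noetherian _
  obtain ⟨s, hsub, hs⟩ := Submodule.fg_span_iff_fg_span_finset_subset _ |>.1 hfg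
  obtain ⟨t, htJ, rfl⟩ := Finset.subset_set_image_iff.1 hsub
  have hJ₀ : (Ideal.span (t : Set H)).FG := ⟨t, rfl⟩
  suffices J = Ideal.span (t : Set H) from this ▸ hJ₀
  refine le_antisymm (fun x hx => hclosed _ hJ₀ (Ideal.mem_iInf.2 fun n => ?_)) (Ideal.span_le.2 htJ)
  have hx' : algebraMap H (AdicCompletion M H) x ∈
      (Ideal.span (t : Set H)).map (algebraMap H (AdicCompletion M H)) := by
    rw [Ideal.map_span, ← Finset.coe_image]
    exact hs.le (Ideal.subset_span ⟨x, hx, rfl⟩)
  have h2 := Ideal.mem_map_of_mem (AdicCompletion.evalₐ M n).toRingHom hx'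
  rw [Ideal.map_map, show (AdicCompletion.evalₐ M n).toRingHom.comp
      (algebraMap H (AdicCompletion M H)) = Ideal.Quotient.mk (M ^ n) from
    (AdicCompletion.evalₐ M n).comp_algebraMap] at h2
  have h3 : Ideal.Quotient.mk (M ^ n) x ∈ (Ideal.span (t : Set H)).map (Ideal.Quotient.mk _) := by
    convert h2
    exact ((AdicCompletion.evalₐ M n).commutes x).symm
  rw [← Ideal.mem_comap, Ideal.comap_map_of_surjective' _ Ideal.Quotient.mk_surjective,
    Ideal.mk_ker] at h3
  exact h3

namespace Groth.Agent.Henselization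

universe u

open IsLocalRing

noncomputable section

variable {R : Type u} [CommRing R] {K : Type u} [Field K] [Algebra R K]

instance (i : Idx R K) : Algebra.QuasiFinite R i.L :=
  have : Algebra.QuasiFinite R i.S := inferInstance
  Algebra.QuasiFinite.of_isLocalization i.q.primeCompl

instance [IsNoetherianRing R] (i : Idx R K) : IsNoetherianRing i.L :=
  Algebra.EssFiniteType.isNoetherianRing R i.L

/-- The colimit as an algebra over a stage. -/
@[instance_reducible]
def algebraStage (i : Idx R K) : Algebra i.L (Hz R K) := (ι i).toRingHom.toAlgebra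

attribute [local instance] algebraStage

instance (i : Idx R K) : IsScalarTower R i.L (Hz R K) :=
  .of_algebraMap_eq fun r => ((ι i).commutes r).symm

instance faithfullyFlat_stage (i : Idx R K) : Module.FaithfullyFlat i.L (Hz R K) :=
  have : Module.Flat i.L (Hz R K) :=
    Algebra.FormallyUnramified.flat_of_restrictScalars R i.L (Hz R K)
  have : IsLocalHom (algebraMap i.L (Hz R K)) := ⟨fun x hx => by
    rw [i.isUnit_iff]
    exact (isUnit_iff _).1 hx⟩
  Module.FaithfullyFlat.of_flat_of_isLocalHom

theorem comap_map_ι (i : Idx R K) (J : Ideal i.L) :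
    (J.map (ι i).toRingHom).comap (ι i).toRingHom = J :=
  Ideal.comap_map_eq_self_of_faithfullyFlat (B := Hz R K) J

theorem ι_injective (i : Idx R K) : Function.Injective (ι i) :=
  (RingHom.injective_iff_ker_eq_bot (ι i).toRingHom).2 (by
    rw [RingHom.ker_eq_comap_bot, ← Ideal.map_bot (f := (ι i).toRingHom), comap_map_ι])

theorem map_map_ι (i : Idx R K) (I : Ideal R) :
    (I.map (algebraMap R i.L)).map (ι i).toRingHom = I.map (algebraMap R (Hz R K)) := by
  rw [Ideal.map_map]
  exact congrArg (I.map ·) (RingHom.ext (ι i).commutes)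

theorem Idx.isRadical_map (i : Idx R K) {I : Ideal R} (hI : I.IsRadical) :
    (I.map (algebraMap R i.L)).IsRadical := by
  have h := EtaleLib.isRadical_map_of_etale (B := i.S) hI
  rw [IsScalarTower.algebraMap_eq R i.S i.L, ← Ideal.map_map, ← Ideal.radical_eq_iff,
    ← IsLocalization.map_radical i.q.primeCompl i.L, h.radical]

theorem isRadical_map {I : Ideal R} (hI : I.IsRadical) :
    (I.map (algebraMap R (Hz R K))).IsRadical := by
  rintro z ⟨n, hn⟩
  obtain ⟨i, x, rfl⟩ := exists_ι z
  rw [← map_map_ι i, ← map_pow] at hn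
  have hx : x ^ n ∈ I.map (algebraMap R i.L) := by
    rw [← comap_map_ι i (I.map (algebraMap R i.L))]
    exact hn
  rw [← map_map_ι i]
  exact Ideal.mem_map_of_mem (ι i).toRingHom (i.isRadical_map hI ⟨n, hx⟩)

theorem nilradical_eq_map : nilradical (Hz R K) = (nilradical R).map (algebraMap R (Hz R K)) := by
  refine le_antisymm ?_ (Ideal.map_le_iff_le_comap.2 fun _ hx => IsNilpotent.map hx _)
  have h := (isRadical_map (K := K) (Ideal.radical_isRadical (⊥ : Ideal R))).radical
  exact (Ideal.radical_mono bot_le).trans h.le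

theorem isReduced [IsReduced R] : IsReduced (Hz R K) :=
  ⟨fun x hx => by
    have h : x ∈ nilradical (Hz R K) := hx
    rwa [nilradical_eq_map, nilradical_eq_zero R, Ideal.zero_eq_bot, Ideal.map_bot] at h⟩

theorem eq_of_le_of_comap_eq {P Q : Ideal (Hz R K)} [P.IsPrime] [Q.IsPrime] (hle : P ≤ Q)
    (h : P.comap (algebraMap R (Hz R K)) = Q.comap (algebraMap R (Hz R K))) : P = Q := by
  refine le_antisymm hle fun z hz => ?_
  obtain ⟨i, x, rfl⟩ := exists_ι z
  have := Algebra.QuasiFinite.eq_of_le_of_under_eq (R := R) (P.comap (ι i).toRingHom)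
    (Q.comap (ι i).toRingHom) (Ideal.comap_mono hle) (by
      simp only [Ideal.under_def, Ideal.comap_comap]
      convert h using 2 <;> exact RingHom.ext (ι i).commutes)
  exact this.ge hz

theorem strictMono_comap :
    StrictMono (PrimeSpectrum.comap (algebraMap R (Hz R K))) := fun P Q h => by
  refine lt_of_le_of_ne (Ideal.comap_mono (PrimeSpectrum.asIdeal_le_asIdeal P Q |>.2 h.le))
    fun he => h.ne (PrimeSpectrum.ext ?_)
  exact eq_of_le_of_comap_eq ((PrimeSpectrum.asIdeal_le_asIdeal P Q).2 h.le)
    (congrArg PrimeSpectrum.asIdeal he)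

instance : Algebra.FormallyEtale R (Hz R K) := by
  rw [Algebra.FormallyEtale.iff_comp_bijective]
  intro B _ _ I hI
  constructor
  · intro f g h
    ext z
    obtain ⟨i, x, rfl⟩ := exists_ι z
    exact AlgHom.congr_fun ((Algebra.FormallyEtale.comp_bijective R i.L I hI).1
      (a₁ := f.comp (ι i)) (a₂ := g.comp (ι i)) (by
        simp only [← AlgHom.comp_assoc]
        exact congrArg (AlgHom.comp · (ι i)) h)) x
  · intro f
    choose t ht using fun i : Idx R K =>
      (Algebra.FormallyEtale.comp_bijective R i.L I hI).2 (f.comp (ι i))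
    refine ⟨DirectLimit.Algebra.lift _ _ B t fun i j h x => ?_, ?_⟩
    · refine AlgHom.congr_fun ((Algebra.FormallyEtale.comp_bijective R i.L I hI).1
        (a₁ := (t j).comp (tr i j h)) (a₂ := t i) ?_) x
      simp only [← AlgHom.comp_assoc, ht]
      exact AlgHom.ext fun y => congrArg f (ι_tr i j h y)
    · refine AlgHom.ext fun z => ?_
      obtain ⟨i, x, rfl⟩ := exists_ι z
      exact AlgHom.congr_fun (ht i) x

section Local

variable [IsLocalRing R] [Algebra (ResidueField R) K] [IsScalarTower R (ResidueField R) K]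

theorem algebraMap_injective : Function.Injective (algebraMap R (Hz R K)) :=
  FaithfulSMul.algebraMap_injective R (Hz R K)

theorem isReduced_iff : IsReduced (Hz R K) ↔ IsReduced R :=
  ⟨fun _ => isReduced_of_injective _ (algebraMap_injective (R := R) (K := K)), fun _ => isReduced⟩

theorem comap_map_eq (I : Ideal R) :
    (I.map (algebraMap R (Hz R K))).comap (algebraMap R (Hz R K)) = I :=
  Ideal.comap_map_eq_self_of_faithfullyFlat I

theorem ringKrullDim_eq : ringKrullDim (Hz R K) = ringKrullDim R := by
  refine le_antisymm (Order.krullDim_le_of_strictMono _ strictMono_comap) ?_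
  rw [ringKrullDim, ringKrullDim, Order.krullDim]
  refine iSup_le fun l => ?_
  obtain ⟨P, hP⟩ := PrimeSpectrum.comap_surjective_of_faithfullyFlat (B := Hz R K) l.last
  have : P.asIdeal.LiesOver l.last.asIdeal := ⟨(congrArg PrimeSpectrum.asIdeal hP).symm⟩
  obtain ⟨L, hL, -, -⟩ := Ideal.exists_ltSeries_of_hasGoingDown l P.asIdeal
  exact le_iSup_of_le L (by rw [hL])

theorem isNoetherianRing [IsNoetherianRing R] : IsNoetherianRing (Hz R K) := by
  have hfg : (maximalIdeal (Hz R K)).FG := by
    rw [← map_maximalIdeal]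
    exact Ideal.FG.map (IsNoetherian.noetherian (maximalIdeal R)) _
  let := Ideal.Quotient.field (maximalIdeal (Hz R K))
  refine isNoetherianRing_of_closed _ hfg fun J ⟨s, hs⟩ z hz => ?_
  classical
  obtain ⟨i, hi⟩ := exists_lift_finset (insert z s)
  obtain ⟨x, rfl⟩ := hi z (Finset.mem_insert_self _ _)
  choose y hy using fun w : (s : Set (Hz R K)) => hi w.1 (Finset.mem_insert_of_mem w.2)
  have hJ : (Ideal.span (Set.range y)).map (ι i).toRingHom = J := by
    rw [Ideal.map_span, ← Set.range_comp, show J = Ideal.span (s : Set (Hz R K)) from hs.symm]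
    congr 1
    exact (congrArg Set.range (funext hy)).trans Subtype.range_coe
  rw [Ideal.mem_iInf] at hz
  have hx : x ∈ ⨅ n : ℕ, Ideal.span (Set.range y) ⊔ maximalIdeal i.L ^ n := by
    refine Ideal.mem_iInf.2 fun n => ?_
    rw [← comap_map_ι i (_ ⊔ _), Ideal.mem_comap, Ideal.map_sup, hJ, Ideal.map_pow,
      ← i.map_maximalIdeal, map_map_ι, map_maximalIdeal]
    exact hz n
  rw [← hJ]
  refine Ideal.mem_map_of_mem (ι i).toRingHom ?_
  have hne : Ideal.map (Ideal.Quotient.mk (Ideal.span (Set.range y))) (maximalIdeal i.L) ≤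
      Ideal.jacobson ⊥ := by
    refine le_sInf fun M hM => Ideal.map_le_iff_le_comap.2 ?_
    have := hM.2
    exact (eq_maximalIdeal (Ideal.comap_isMaximal_of_surjective _ Ideal.Quotient.mk_surjective)).ge
  refine Ideal.Quotient.eq_zero_iff_mem.1 ?_
  rw [← Submodule.mem_bot (i.L ⧸ Ideal.span (Set.range y)),
    ← Ideal.iInf_pow_smul_eq_bot_of_le_jacobson (M := i.L ⧸ Ideal.span (Set.range y)) _ hne,
    Submodule.mem_iInf]
  intro n
  have := Ideal.mem_map_of_mem (Ideal.Quotient.mk (Ideal.span (Set.range y))) (Ideal.mem_iInf.1 hx n)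
  rw [Ideal.map_sup, Ideal.map_quotient_self, bot_sup_eq, Ideal.map_pow] at this
  rwa [smul_eq_mul, Ideal.mul_top]

theorem isNoetherianRing_iff : IsNoetherianRing (Hz R K) ↔ IsNoetherianRing R := by
  refine ⟨fun _ => ?_, fun _ => isNoetherianRing⟩
  exact (isNoetherianRing_iff_ideal_fg R).2 fun I => by
    by_contra hI
    have hmono : StrictMono (Ideal.map (algebraMap R (Hz R K))) :=
      (Ideal.gc_map_comap _).monotone_l.strictMono_of_injective
        (Function.LeftInverse.injective (g := Ideal.comap (algebraMap R (Hz R K)))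
          fun I => comap_map_eq I)
    have : WellFoundedGT (Ideal R) := hmono.wellFoundedGT
    have : IsNoetherianRing R := ⟨(isNoetherian_iff'.2 this).noetherian⟩
    exact hI (IsNoetherian.noetherian I)

end Local

section Residue

variable [IsLocalRing R]

theorem exists_sub_algebraMap_mem (x : Hz R (ResidueField R)) (n : ℕ) :
    ∃ r, x - algebraMap R _ r ∈
      (maximalIdeal R ^ n).map (algebraMap R (Hz R (ResidueField R))) := by
  induction n generalizing x with
  | zero => exact ⟨0, by rw [pow_zero, Ideal.one_eq_top, Ideal.map_top]; trivial⟩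
  | succ n ih =>
    have base : ∀ y : Hz R (ResidueField R), ∃ r, y - algebraMap R _ r ∈
        (maximalIdeal R).map (algebraMap R (Hz R (ResidueField R))) := by
      intro y
      obtain ⟨r, hr⟩ := residue_surjective (εH R (ResidueField R) y)
      refine ⟨r, ?_⟩
      rw [map_maximalIdeal, mem_maximalIdeal_iff, map_sub, AlgHom.commutes,
        ResidueField.algebraMap_eq, hr, sub_self]
    have key : ∀ y ∈ (maximalIdeal R).map (algebraMap R (Hz R (ResidueField R))),
        ∀ c, ∃ r, c * y - algebraMap R _ r ∈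
          (maximalIdeal R ^ (n + 1)).map (algebraMap R (Hz R (ResidueField R))) := by
      intro y hy
      induction hy using Submodule.span_induction with
      | mem y hy =>
        intro c
        obtain ⟨a, ha, rfl⟩ := hy
        obtain ⟨r, hr⟩ := ih c
        refine ⟨r * a, ?_⟩
        rw [map_mul, ← sub_mul, pow_succ, Ideal.map_mul]
        exact Ideal.mul_mem_mul hr (Ideal.mem_map_of_mem _ ha)
      | zero => exact fun c => ⟨0, by simp⟩
      | add y z _ _ h1 h2 =>
        intro c
        obtain ⟨r, hr⟩ := h1 c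
        obtain ⟨r', hr'⟩ := h2 c
        exact ⟨r + r', by rw [map_add, mul_add, add_sub_add_comm]; exact add_mem hr hr'⟩
      | smul d y _ h =>
        intro c
        obtain ⟨r, hr⟩ := h (c * d)
        exact ⟨r, by rw [smul_eq_mul, ← mul_assoc]; exact hr⟩
    obtain ⟨r, hr⟩ := base x
    obtain ⟨r', hr'⟩ := key _ hr 1
    exact ⟨r + r', by rwa [one_mul, sub_sub, ← map_add] at hr'⟩

theorem quotientMap_pow_bijective (n : ℕ) :
    Function.Bijective (Ideal.quotientMap
      ((maximalIdeal R ^ n).map (algebraMap R (Hz R (ResidueField R))))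
      (algebraMap R (Hz R (ResidueField R))) Ideal.le_comap_map) := by
  refine ⟨Ideal.quotientMap_injective' (comap_map_eq _).le, fun y => ?_⟩
  obtain ⟨x, rfl⟩ := Ideal.Quotient.mk_surjective y
  obtain ⟨r, hr⟩ := exists_sub_algebraMap_mem x n
  exact ⟨Ideal.Quotient.mk _ r, (Ideal.Quotient.eq.2 hr).symm⟩

end Residue

end

end Groth.Agent.Henselization
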