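import Groth.Agent.Henselization.Universal
import Groth.Agent.Hensel.Idempotent
import Mathlib.RingTheory.LocalRing.RingHom.Basic

/-!
Henselization commutes with quotients and with integral local base change.
-/

namespace Groth.Agent.Henselization

universe u

open IsLocalRing TensorProduct

noncomputable section

theorem isHenselization_quotient {A S : Type u} [CommRing A] [IsLocalRing A] [CommRing S]
    [IsLocalRing S] [Algebra A S] [IsLocalHom (algebraMap A S)]
    [hS : _root_.Hensel.IsHenselization A S] (I : Ideal A) [IsLocalRing (A ⧸ I)]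
    [IsLocalRing (S ⧸ I.map (algebraMap A S))]
    [IsLocalHom (algebraMap (A ⧸ I) (S ⧸ I.map (algebraMap A S)))] :
    _root_.Hensel.IsHenselization (A ⧸ I) (S ⧸ I.map (algebraMap A S)) where
  henselian := by
    have := hS.henselian
    let π := Ideal.Quotient.mk (I.map (algebraMap A S))
    have h := Hensel.map_surjective (I := maximalIdeal S) (φ := π) Ideal.Quotient.mk_surjective
    have he : (maximalIdeal S).map π = maximalIdeal (S ⧸ I.map (algebraMap A S)) := by
      rcases Ideal.map_eq_top_or_isMaximal_of_surjective π Ideal.Quotient.mk_surjective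
        (maximalIdeal.isMaximal S) with ht | hm
      · exact absurd (eq_top_iff.2 (ht.ge.trans (h.jac.trans (le_maximalIdeal fun h' =>
          (Ideal.jacobson_eq_top_iff.1 h') |> bot_ne_top))))
          (maximalIdeal.isMaximal _).ne_top
      · exact eq_maximalIdeal hm
    rw [he] at h
    exact Hensel.henselianRing_maximalIdeal_iff.1 h
  universal T _ _ f hf := by
    have hloc : IsLocalHom (f.comp (Ideal.Quotient.mk I)) :=
      have := hf
      have : IsLocalHom (Ideal.Quotient.mk I) := .of_surjective _ Ideal.Quotient.mk_surjective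
      RingHom.isLocalHom_comp _ _
    obtain ⟨g, hg, hu⟩ := hS.universal T (f.comp (Ideal.Quotient.mk I)) hloc
    have hk : ∀ x ∈ I.map (algebraMap A S), g x = 0 := fun x hx => by
      have := Ideal.mem_map_of_mem g hx
      rw [Ideal.map_map, hg, ← Ideal.map_map, Ideal.map_quotient_self, Ideal.map_bot] at this
      exact this
    refine ⟨Ideal.Quotient.lift _ g hk, RingHom.ext fun a => ?_, fun g' hg' => ?_⟩
    · obtain ⟨a, rfl⟩ := Ideal.Quotient.mk_surjective a
      exact RingHom.congr_fun hg a
    · have := hu (g'.comp (Ideal.Quotient.mk _)) (RingHom.ext fun a =>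
        RingHom.congr_fun hg' (Ideal.Quotient.mk I a))
      refine Ideal.Quotient.ringHom_ext ?_
      rw [this]
      rfl

theorem exists_isHenselization_tensor (A B S : Type u) [CommRing A] [IsLocalRing A]
    [CommRing B] [IsLocalRing B] [Algebra A B] [IsLocalHom (algebraMap A B)]
    [Algebra.IsIntegral A B] [CommRing S] [IsLocalRing S] [Algebra A S]
    [IsLocalHom (algebraMap A S)] [hS : _root_.Hensel.IsHenselization A S] :
    ∃ (_ : IsLocalRing (B ⊗[A] S)) (_ : IsLocalHom (algebraMap B (B ⊗[A] S))),
      _root_.Hensel.IsHenselization B (B ⊗[A] S) := by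
  have := hS.henselian
  obtain ⟨e⟩ := exists_algEquiv_of_isHenselization A S
  have hmS := map_maximalIdeal_of_equiv e
  have : Module.FaithfullyFlat A S := Module.FaithfullyFlat.of_linearEquiv A _ e.symm.toLinearEquiv
  let _ : Algebra S (B ⊗[A] S) := Algebra.TensorProduct.rightAlgebra
  let iS : S →+* B ⊗[A] S := (Algebra.TensorProduct.includeRight : S →ₐ[A] B ⊗[A] S).toRingHom
  let iB : B →+* B ⊗[A] S := algebraMap B (B ⊗[A] S)
  have : Algebra.IsIntegral S (B ⊗[A] S) :=
    Algebra.IsIntegral.of_surjective (Algebra.TensorProduct.commRight A S B).toAlgHom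
      (Algebra.TensorProduct.commRight A S B).surjective
  have hnt : Nontrivial (B ⊗[A] S) := by
    have : Function.Injective iB := fun x y h =>
      Module.FaithfullyFlat.tensorProduct_mk_injective (A := A) (B := S) B
        (by simpa [iB] using congrArg (TensorProduct.comm A B S) h)
    exact this.nontrivial
  let M : Ideal (B ⊗[A] S) := (maximalIdeal B).map iB ⊔ (maximalIdeal S).map iS
  have hcomm : ∀ a, iB (algebraMap A B a) = iS (algebraMap A S a) := fun a => by
    show algebraMap A B a ⊗ₜ[A] (1 : S) = (1 : B) ⊗ₜ[A] algebraMap A S a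
    rw [Algebra.algebraMap_eq_smul_one, Algebra.algebraMap_eq_smul_one, TensorProduct.smul_tmul]
  have hsurj : ∀ z : B ⊗[A] S, ∃ b, z - iB b ∈ M := by
    intro z
    induction z using TensorProduct.induction_on with
    | zero => exact ⟨0, by simp⟩
    | tmul b s =>
      obtain ⟨a, ha⟩ := (residueField_bijective_of_equiv e).2 (residue S s)
      obtain ⟨a, rfl⟩ := residue_surjective a
      rw [ResidueField.map_residue, eq_comm] at ha
      refine ⟨b * algebraMap A B a, ?_⟩
      rw [map_mul, hcomm, show b ⊗ₜ[A] s = iB b * iS s by simp [iB, iS], ← mul_sub, ← map_sub]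
      exact Ideal.mul_mem_left _ _ (Ideal.mem_sup_right (Ideal.mem_map_of_mem iS (Ideal.Quotient.eq.1 ha)))
    | add x y hx hy =>
      obtain ⟨b, hb⟩ := hx
      obtain ⟨c, hc⟩ := hy
      exact ⟨b + c, by rw [map_add, add_sub_add_comm]; exact add_mem hb hc⟩
  have hprime : ∀ P : Ideal (B ⊗[A] S), P.IsPrime → (maximalIdeal S).map iS ≤ P → M ≤ P := by
    intro P hP h
    refine sup_le (Ideal.map_le_iff_le_comap.2 ?_) h
    refine (eq_maximalIdeal (Ideal.isMaximal_of_isIntegral_of_isMaximal_comap (R := A) (P.comap iB) ?_)).ge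
    have hle : maximalIdeal A ≤ (P.comap iB).comap (algebraMap A B) := fun a ha => by
      show iB (algebraMap A B a) ∈ P
      rw [hcomm]
      exact h (Ideal.mem_map_of_mem iS (hmS.le (Ideal.mem_map_of_mem _ ha)))
    rw [← (maximalIdeal.isMaximal A).eq_of_le (Ideal.IsPrime.ne_top inferInstance) hle]
    exact maximalIdeal.isMaximal A
  have hmax : ∀ P : Ideal (B ⊗[A] S), P.IsMaximal → P = M := by
    intro P hP
    have hPS : (maximalIdeal S).map iS ≤ P := Ideal.map_le_iff_le_comap.2
      (eq_maximalIdeal (Ideal.isMaximal_comap_of_isIntegral_of_isMaximal (R := S) P)).ge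
    refine le_antisymm (fun z hz => ?_) (hprime P hP.isPrime hPS)
    obtain ⟨b, hb⟩ := hsurj z
    have hbP : iB b ∈ P := by simpa using sub_mem hz (hprime P hP.isPrime hPS hb)
    have hb' : b ∈ maximalIdeal B := le_maximalIdeal (Ideal.comap_ne_top iB hP.ne_top) hbP
    rw [show z = (z - iB b) + iB b by ring]
    exact add_mem hb (Ideal.mem_sup_left (Ideal.mem_map_of_mem iB hb'))
  obtain ⟨P, hP⟩ := Ideal.exists_maximal (B ⊗[A] S)
  have hM : M.IsMaximal := hmax P hP ▸ hP
  have hloc : IsLocalRing (B ⊗[A] S) := IsLocalRing.of_unique_max_ideal ⟨M, hM, hmax⟩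
  have hMe : maximalIdeal (B ⊗[A] S) = M := (eq_maximalIdeal hM).symm
  have hlh : IsLocalHom (algebraMap B (B ⊗[A] S)) :=
    ((local_hom_TFAE (algebraMap B (B ⊗[A] S))).out 0 2 rfl rfl).mpr (hMe ▸ le_sup_left)
  refine ⟨hloc, hlh, ⟨?_, fun T _ _ f hf => ?_⟩⟩
  · have h : HenselianRing (B ⊗[A] S) ((maximalIdeal S).map iS) :=
      Hensel.of_isIntegral (I := maximalIdeal S) (B ⊗[A] S)
    have hrad : ((maximalIdeal S).map iS).radical = M.radical := by
      refine le_antisymm (Ideal.radical_mono le_sup_right) ?_
      rw [hM.isPrime.radical, Ideal.radical_eq_sInf]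
      exact le_sInf fun P hP => hprime P hP.2 hP.1
    rw [Hensel.iff_of_radical_eq hrad, ← hMe] at h
    exact Hensel.henselianRing_maximalIdeal_iff.1 h
  · have hfl : IsLocalHom (f.comp (algebraMap A B)) :=
      have := hf
      RingHom.isLocalHom_comp _ _
    obtain ⟨g, hg, hu⟩ := hS.universal T (f.comp (algebraMap A B)) hfl
    let _ : Algebra A T := (f.comp (algebraMap A B)).toAlgebra
    let fA : B →ₐ[A] T := { toRingHom := f, commutes' := fun a => rfl }
    let gA : S →ₐ[A] T := { toRingHom := g, commutes' := RingHom.congr_fun hg }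
    refine ⟨(Algebra.TensorProduct.lift fA gA fun _ _ => Commute.all _ _).toRingHom,
      RingHom.ext fun b => by simp [fA], fun h hh => RingHom.ext fun z => ?_⟩
    have hgS : h.comp iS = g := hu _ (RingHom.ext fun a => by
      show h (iS (algebraMap A S a)) = f (algebraMap A B a)
      rw [← hcomm]
      exact RingHom.congr_fun hh _)
    induction z using TensorProduct.induction_on with
    | zero => simp
    | tmul b s =>
      have : b ⊗ₜ[A] s = iB b * iS s := by simp [iB, iS]
      rw [this, map_mul, map_mul, show h (iB b) = f b from RingHom.congr_fun hh b,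
        show h (iS s) = g s from RingHom.congr_fun hgS s]
      simp [iB, iS, fA, gA]
    | add x y hx hy => rw [map_add, map_add, hx, hy]

theorem isStrictHenselization_of_pair (R : Type u) [CommRing R] [IsLocalRing R] (J : Ideal R)
    (hJ : J ≤ maximalIdeal R) (H : Type u) [CommRing H] [IsLocalRing H] [Algebra R H]
    [IsLocalHom (algebraMap R H)] (hH : Hens2.IsPairHenselization R J H)
    (S : Type u) [CommRing S] [IsLocalRing S] [Algebra H S] [IsLocalHom (algebraMap H S)]
    [hS : _root_.Hensel.IsStrictHenselization H S]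
    [Algebra R S] [IsScalarTower R H S] [IsLocalHom (algebraMap R S)] :
    _root_.Hensel.IsStrictHenselization R S := by
  have hres : Function.Surjective (ResidueField.map (algebraMap R H)) := fun x => by
    obtain ⟨h, rfl⟩ := residue_surjective x
    obtain ⟨r, hr⟩ := exists_sub_mem_of_isPairHenselization hH h
    refine ⟨residue R r, ?_⟩
    rw [ResidueField.map_residue, eq_comm]
    refine Ideal.Quotient.eq.2 (Ideal.map_le_iff_le_comap.2 ?_ hr)
    exact hJ.trans ((((local_hom_TFAE (algebraMap R H)).out 0 4 rfl rfl).mp inferInstance).ge)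
  have := hS.isSepClosure
  refine { henselian := hS.henselian, isSepClosure := ?_, universal := fun T _ _ f _ τ hτ => ?_ }
  · have : IsScalarTower (ResidueField R) (ResidueField H) (ResidueField S) := inferInstance
    have : Algebra.IsSeparable (ResidueField R) (ResidueField H) := ⟨fun x => by
      obtain ⟨y, rfl⟩ := hres x
      exact isSeparable_algebraMap y⟩
    exact ⟨this |> fun _ => IsSepClosure.sep_closed (ResidueField H),
      Algebra.IsSeparable.trans (ResidueField R) (ResidueField H) (ResidueField S)⟩
  · obtain ⟨g, hg, hgu⟩ := hH.2 T (maximalIdeal T) f inferInstance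
      ((Ideal.map_mono hJ).trans (((local_hom_TFAE f).out 0 2 rfl rfl).mp inferInstance))
    have : IsLocalHom g := by
      refine ((local_hom_TFAE g).out 0 2 rfl rfl).mpr (Ideal.map_le_iff_le_comap.2 fun h hh => ?_)
      obtain ⟨r, hr⟩ := exists_sub_mem_of_isPairHenselization hH h
      have h1 : g (h - algebraMap R H r) ∈ maximalIdeal T := by
        have := Ideal.mem_map_of_mem g hr
        rw [Ideal.map_map, hg] at this
        exact ((Ideal.map_mono hJ).trans (((local_hom_TFAE f).out 0 2 rfl rfl).mp inferInstance)) this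
      have hrm : r ∈ maximalIdeal R := by
        rw [← (((local_hom_TFAE (algebraMap R H)).out 0 4 rfl rfl).mp inferInstance), Ideal.mem_comap]
        simpa using sub_mem hh ((Ideal.map_le_iff_le_comap.2
          (hJ.trans (((local_hom_TFAE (algebraMap R H)).out 0 4 rfl rfl).mp inferInstance).ge)) hr)
      have h2 : g (algebraMap R H r) ∈ maximalIdeal T := by
        rw [← RingHom.comp_apply g, hg]
        exact map_nonunit f r hrm
      rw [Ideal.mem_comap, show h = (h - algebraMap R H r) + algebraMap R H r by ring, map_add]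
      exact add_mem h1 h2
    have hτ' : τ.comp (ResidueField.map (algebraMap H S)) = ResidueField.map g := RingHom.ext fun x => by
      obtain ⟨y, rfl⟩ := hres x
      obtain ⟨r, rfl⟩ := residue_surjective y
      have := RingHom.congr_fun hτ (residue R r)
      simp only [RingHom.comp_apply, ResidueField.map_residue] at this ⊢
      rw [← IsScalarTower.algebraMap_apply, this, ← RingHom.comp_apply g, hg]
    obtain ⟨k, ⟨hk, hkr⟩, hku⟩ := hS.universal T g τ hτ'
    refine ⟨k, ⟨?_, hkr⟩, fun k' ⟨hk', hkr'⟩ => hku k' ⟨hgu _ ?_, hkr'⟩⟩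
    · rw [IsScalarTower.algebraMap_eq R H S, ← RingHom.comp_assoc, hk, hg]
    · show (k'.comp _).comp _ = f
      rw [RingHom.comp_assoc, ← IsScalarTower.algebraMap_eq, hk']

end

end Groth.Agent.Henselization
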