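import Groth.Agent.Henselization.Transfer
import Groth.Prelude.Def_Hens2
import Groth.Agent.Hensel.Idempotent

/-!
Universal property for pairs, quotients, integral base change.
-/

namespace Groth.Agent.Henselization

universe u

open IsLocalRing Hens2

noncomputable section

variable {R : Type u} [CommRing R] {K : Type u} [Field K] [Algebra R K]

theorem existsUnique_hom_pair {C : Type u} [CommRing C] {J : Ideal C} [HenselianRing C J]
    (f : R →+* C) (τ : K →+* C ⧸ J) (hτ : τ.comp (algebraMap R K) = (Ideal.Quotient.mk J).comp f) :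
    ∃! g : Hz R K →+* C, g.comp (algebraMap R (Hz R K)) = f ∧
      ∀ x, Ideal.Quotient.mk J (g x) = τ (εH R K x) := by
  let _ : Algebra R C := f.toAlgebra
  have hjac : J ≤ Ideal.jacobson ⊥ := HenselianRing.jac
  let c : ∀ i : Idx R K, i.S →ₐ[R] C ⧸ J := fun i =>
    { toRingHom := τ.comp i.pt.toRingHom
      commutes' := fun r => by
        show τ (i.pt (algebraMap R i.S r)) = _
        rw [i.pt.commutes]
        exact RingHom.congr_fun hτ r }
  choose t ht using fun i : Idx R K =>
    (Hensel.bijective_comp_mk (E := i.S) (A := C) (I := J)).2 (c i)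
  have htres : ∀ (i : Idx R K) (x : i.S), Ideal.Quotient.mk J (t i x) = τ (i.pt x) := fun i x =>
    AlgHom.congr_fun (ht i) x
  have htu : ∀ (i : Idx R K) (s : i.q.primeCompl), IsUnit (t i s) := fun i s => by
    refine Hensel.isUnit_of_quotient hjac ?_
    rw [htres]
    exact (isUnit_iff_ne_zero.2 (show i.pt s ≠ 0 from s.2)).map τ
  let tL : ∀ i : Idx R K, i.L →ₐ[R] C := fun i =>
    IsLocalization.liftAlgHom (M := i.q.primeCompl) (f := t i) (htu i)
  have htL : ∀ (i : Idx R K) (x : i.L), Ideal.Quotient.mk J (tL i x) = τ (i.ε x) := by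
    intro i x
    obtain ⟨⟨a, s⟩, h⟩ := IsLocalization.surj i.q.primeCompl x
    have h0 : ∀ b : i.S, t i b = tL i (algebraMap i.S i.L b) :=
      fun b => (IsLocalization.lift_eq _ b).symm
    have h1 : tL i x * t i s = t i a := by rw [h0 s, h0 a, ← map_mul, h]
    have h2 : i.ε x * i.pt s = i.pt a := by
      rw [← i.ε_algebraMap, ← i.ε_algebraMap, ← map_mul, h]
    have h3 := congrArg (Ideal.Quotient.mk J) h1
    rw [map_mul, htres, htres, ← h2, map_mul] at h3
    exact ((isUnit_iff_ne_zero.2 (show i.pt s ≠ 0 from s.2)).map τ).mul_right_cancel h3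
  have huniq : ∀ (i : Idx R K) (g₁ g₂ : i.L →ₐ[R] C),
      (∀ x, Ideal.Quotient.mk J (g₁ x) = Ideal.Quotient.mk J (g₂ x)) → g₁ = g₂ := fun i g₁ g₂ h =>
    IsLocalization.algHom_ext i.q.primeCompl
      (Hensel.algHom_unique (A := C) (I := J) hjac fun x => Ideal.Quotient.eq.1 (h _))
  have hcompat : ∀ i j h, ∀ x, tL j (tr i j h x) = tL i x := fun i j h x =>
    AlgHom.congr_fun (huniq i ((tL j).comp (tr i j h)) (tL i) fun y => by
      rw [AlgHom.comp_apply, htL, htL, ← AlgHom.comp_apply, ε_tr]) x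
  let g : Hz R K →ₐ[R] C := DirectLimit.Algebra.lift _ _ C tL hcompat
  have hg : ∀ x, Ideal.Quotient.mk J (g x) = τ (εH R K x) := fun x => by
    obtain ⟨i, y, rfl⟩ := exists_ι x
    exact htL i y
  refine ⟨g.toRingHom, ⟨RingHom.ext g.commutes, hg⟩, fun g' ⟨h1, h2⟩ => RingHom.ext fun x => ?_⟩
  let g'' : Hz R K →ₐ[R] C := { toRingHom := g', commutes' := RingHom.congr_fun h1 }
  obtain ⟨i, y, rfl⟩ := exists_ι x
  exact AlgHom.congr_fun (huniq i (g''.comp (ι i)) (g.comp (ι i)) fun z =>
    (h2 _).trans (hg _).symm) y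

theorem exists_sub_mem_of_isPairHenselization {A : Type u} [CommRing A] {I : Ideal A} {B : Type u}
    [CommRing B] [Algebra A B] (hB : IsPairHenselization A I B) (b : B) :
    ∃ a : A, b - algebraMap A B a ∈ I.map (algebraMap A B) := by
  have hh := hB.1
  let M := I.map (algebraMap A B)
  let B' : Subring B := ((Ideal.Quotient.mk M).comp (algebraMap A B)).range.comap (Ideal.Quotient.mk M)
  have hmem : ∀ x ∈ M, x ∈ B' := fun x hx => ⟨0, by
    rw [map_zero]; exact (Ideal.Quotient.eq_zero_iff_mem.2 hx).symm⟩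
  let f : A →+* B' := (algebraMap A B).codRestrict B' fun a => ⟨a, rfl⟩
  have hjac : M.comap B'.subtype ≤ Ideal.jacobson ⊥ := fun x hx => by
    rw [Ideal.mem_jacobson_bot]
    intro y
    obtain ⟨u, hu⟩ : IsUnit ((x : B) * y + 1) :=
      Ideal.mem_jacobson_bot.1 (hh.jac hx) y
    have hmem' : (↑u⁻¹ : B) ∈ B' := by
      have h1 : (x : B) * y ∈ M := Ideal.mul_mem_right _ _ hx
      have : (↑u⁻¹ : B) = 1 - ↑u⁻¹ * ((x : B) * y) := by
        linear_combination u.inv_mul - (↑u⁻¹ : B) * hu
      rw [this]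
      exact sub_mem (one_mem _) (hmem _ (Ideal.mul_mem_left _ _ h1))
    refine IsUnit.of_mul_eq_one (⟨_, hmem'⟩ : B') (Subtype.ext ?_)
    show ((x : B) * y + 1) * ↑u⁻¹ = 1
    rw [← hu, u.mul_inv]
  have hsub : (Ideal.Quotient.mk M).comp B'.subtype =
      ((Ideal.Quotient.mk M).comp B'.subtype) := rfl
  have hpair : HenselianRing B' (M.comap B'.subtype) := by
    refine ⟨hjac, fun p hp a₀ h₁ h₂ => ?_⟩
    have he : ∀ q : Polynomial B', (q.map B'.subtype).eval (a₀ : B) = q.eval a₀ := fun q => by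
      rw [Polynomial.eval_map, show (a₀ : B) = B'.subtype a₀ from rfl, Polynomial.eval₂_at_apply]
      rfl
    obtain ⟨z, hz, hza⟩ := hh.is_henselian (p.map B'.subtype) (hp.map _) (a₀ : B)
      (by rw [he]; exact h₁) (by
        rw [Polynomial.derivative_map, he]
        exact (h₂.map (Ideal.quotientMap M B'.subtype le_rfl) : _))
    have hz' : z ∈ B' := by
      rw [show z = (a₀ : B) + (z - a₀) by ring]
      exact add_mem a₀.2 (hmem _ hza)
    refine ⟨⟨z, hz'⟩, Subtype.ext ?_, hza⟩
    rw [Polynomial.IsRoot, Polynomial.eval_map, show z = B'.subtype ⟨z, hz'⟩ from rfl,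
      Polynomial.eval₂_at_apply] at hz
    exact hz
  obtain ⟨g, hg, -⟩ := hB.2 B' (M.comap B'.subtype) f hpair
    (Ideal.map_le_iff_le_comap.2 fun a ha => Ideal.mem_map_of_mem (algebraMap A B) ha)
  have hid : B'.subtype.comp g = RingHom.id B :=
    (hB.2 B M (algebraMap A B) hh le_rfl).unique
      (by rw [RingHom.comp_assoc, hg]; rfl) (RingHom.id_comp _)
  have hb : b ∈ B' := by
    rw [← show B'.subtype (g b) = b from RingHom.congr_fun hid b]
    exact (g b).2
  obtain ⟨a, ha⟩ := hb
  exact ⟨a, Ideal.Quotient.eq.1 ha.symm⟩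

variable (R) [IsLocalRing R]

theorem isPairHenselization :
    IsPairHenselization R (maximalIdeal R) (HenselizationRing R) := by
  refine ⟨?_, fun C _ J f hC hf => ?_⟩
  · rw [map_maximalIdeal]
    infer_instance
  · let τ : ResidueField R →+* C ⧸ J := Ideal.Quotient.lift _ ((Ideal.Quotient.mk J).comp f)
      fun a ha => Ideal.Quotient.eq_zero_iff_mem.2 (hf (Ideal.mem_map_of_mem f ha))
    obtain ⟨g, ⟨hg, hgr⟩, hu⟩ := existsUnique_hom_pair (J := J) f τ (RingHom.ext fun r => rfl)
    refine ⟨g, hg, fun g' hg' => hu g' ⟨hg', fun x => ?_⟩⟩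
    obtain ⟨r, hr⟩ := residue_surjective (εH R (ResidueField R) x)
    have hx : x - algebraMap R _ r ∈ maximalIdeal (HenselizationRing R) := by
      rw [mem_maximalIdeal_iff, map_sub, AlgHom.commutes, ResidueField.algebraMap_eq, hr, sub_self]
    rw [← map_maximalIdeal] at hx
    have hx' := Ideal.mem_map_of_mem g' hx
    rw [Ideal.map_map, hg', map_sub] at hx'
    rw [Ideal.Quotient.eq.2 (hf hx'), ← hr, ← RingHom.comp_apply g', hg']
    rfl

theorem exists_algEquiv_of_isPairHenselization (B : Type u) [CommRing B] [Algebra R B]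
    (hB : IsPairHenselization R (maximalIdeal R) B) :
    Nonempty (HenselizationRing R ≃ₐ[R] B) := by
  have hH := isPairHenselization R
  obtain ⟨g, hg, -⟩ := hH.2 B _ (algebraMap R B) hB.1 le_rfl
  obtain ⟨g', hg', -⟩ := hB.2 (HenselizationRing R) _ (algebraMap R _) hH.1 le_rfl
  have h1 : g.comp g' = RingHom.id B :=
    (hB.2 B _ (algebraMap R B) hB.1 le_rfl).unique (by rw [RingHom.comp_assoc, hg', hg])
      (RingHom.id_comp _)
  have h2 : g'.comp g = RingHom.id _ :=
    (hH.2 _ _ (algebraMap R (HenselizationRing R)) hH.1 le_rfl).unique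
      (by rw [RingHom.comp_assoc, hg, hg']) (RingHom.id_comp _)
  exact ⟨{ toRingEquiv := RingEquiv.ofRingHom g g' h1 h2, commutes' := RingHom.congr_fun hg }⟩

variable {R} {S : Type u} [CommRing S] [Algebra R S]

theorem henselianLocalRing_of_equiv (e : HenselizationRing R ≃ₐ[R] S) : HenselianLocalRing S := by
  have := e.toRingEquiv.isLocalRing
  have := Hensel.of_ringEquiv (I := maximalIdeal (HenselizationRing R)) e.toRingEquiv
  rw [show (maximalIdeal (HenselizationRing R)).map (e.toRingEquiv : _ →+* S) = maximalIdeal S from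
    eq_maximalIdeal (Ideal.map_isMaximal_of_equiv e.toRingEquiv)] at this
  exact (Hensel.henselianRing_maximalIdeal_iff).1 this

theorem isHenselization_of_equiv [IsLocalRing S] [IsLocalHom (algebraMap R S)]
    (e : HenselizationRing R ≃ₐ[R] S) : _root_.Hensel.IsHenselization R S where
  henselian := henselianLocalRing_of_equiv e
  universal T _ _ f hf := by
    have hH : _root_.Hensel.IsHenselization R (HenselizationRing R) := inferInstance
    obtain ⟨g, hg, hu⟩ := hH.universal T f hf
    refine ⟨g.comp e.symm.toAlgHom.toRingHom, ?_, fun g' hg' => ?_⟩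
    · show (g.comp _).comp _ = f
      rw [RingHom.comp_assoc]
      exact (congrArg g.comp e.symm.toAlgHom.comp_algebraMap).trans hg
    · have := hu (g'.comp e.toAlgHom.toRingHom) ((RingHom.comp_assoc ..).trans ((congrArg g'.comp e.toAlgHom.comp_algebraMap).trans hg'))
      rw [← this]
      ext x
      simp

theorem isPairHenselization_of_equiv (e : HenselizationRing R ≃ₐ[R] S) :
    IsPairHenselization R (maximalIdeal R) S := by
  have hH := isPairHenselization R
  refine ⟨?_, fun C _ J f hC hf => ?_⟩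
  · have := hH.1
    rw [← AlgEquiv.map_map e]
    exact Hensel.of_ringEquiv (I := (maximalIdeal R).map (algebraMap R (HenselizationRing R))) e.toRingEquiv
  obtain ⟨g, hg, hu⟩ := hH.2 C J f hC hf
  refine ⟨g.comp e.symm.toAlgHom.toRingHom, ?_, fun g' hg' => ?_⟩
  · show (g.comp _).comp _ = f
    rw [RingHom.comp_assoc]
    exact (congrArg g.comp e.symm.toAlgHom.comp_algebraMap).trans hg
  · have := hu (g'.comp e.toAlgHom.toRingHom) ((RingHom.comp_assoc ..).trans ((congrArg g'.comp e.toAlgHom.comp_algebraMap).trans hg'))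
    rw [← this]
    ext x
    simp

end

end Groth.Agent.Henselization
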