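import Groth.Agent.Hensel.Lift
import Mathlib.Algebra.Colimit.DirectLimit
import Mathlib.RingTheory.Unramified.LocalRing
import Mathlib.RingTheory.Etale.StandardEtale
import Mathlib.FieldTheory.Separable

/-!
The colimit of the local rings of étale `R`-algebras `S` equipped with a point `S → K`.
For `K` the residue field this is the henselization, for `K` a separable closure of it the strict
henselization.
-/

namespace Groth.Agent.Henselization

universe u

open Polynomial IsLocalRing

noncomputable section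

variable (R : Type u) [CommRing R] (K : Type u) [Field K] [Algebra R K]

/-- Index of the colimit: a presented étale algebra with a `K`-point. -/
structure Idx where
  n : ℕ
  m : ℕ
  rel : Fin m → MvPolynomial (Fin n) R
  σ : (MvPolynomial (Fin n) R ⧸ Ideal.span (Set.range rel)) →ₐ[R] K
  etale : Algebra.Etale R (MvPolynomial (Fin n) R ⧸ Ideal.span (Set.range rel))

variable {R K}

def Idx.S (i : Idx R K) : Type u := MvPolynomial (Fin i.n) R ⧸ Ideal.span (Set.range i.rel)

instance (i : Idx R K) : CommRing i.S :=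
  inferInstanceAs (CommRing (MvPolynomial (Fin i.n) R ⧸ Ideal.span (Set.range i.rel)))

instance (i : Idx R K) : Algebra R i.S :=
  inferInstanceAs (Algebra R (MvPolynomial (Fin i.n) R ⧸ Ideal.span (Set.range i.rel)))

instance (i : Idx R K) : Algebra.Etale R i.S := i.etale

/-- The point. -/
def Idx.pt (i : Idx R K) : i.S →ₐ[R] K := i.σ

abbrev Idx.q (i : Idx R K) : Ideal i.S := RingHom.ker i.pt.toRingHom

instance (i : Idx R K) : i.q.IsPrime := RingHom.ker_isPrime _

def Idx.L (i : Idx R K) : Type u := Localization.AtPrime i.q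

instance (i : Idx R K) : CommRing i.L := inferInstanceAs (CommRing (Localization.AtPrime i.q))

instance (i : Idx R K) : IsLocalRing i.L :=
  inferInstanceAs (IsLocalRing (Localization.AtPrime i.q))

instance (i : Idx R K) : Algebra i.S i.L :=
  inferInstanceAs (Algebra i.S (Localization.AtPrime i.q))

instance (i : Idx R K) : Algebra R i.L := inferInstanceAs (Algebra R (Localization.AtPrime i.q))

instance (i : Idx R K) : IsScalarTower R i.S i.L :=
  inferInstanceAs (IsScalarTower R i.S (Localization.AtPrime i.q))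

instance (i : Idx R K) : IsLocalization.AtPrime i.L i.q :=
  inferInstanceAs (IsLocalization.AtPrime (Localization.AtPrime i.q) i.q)

instance (i : Idx R K) : Algebra.EssFiniteType R i.L :=
  have : Algebra.EssFiniteType i.S i.L := .of_isLocalization i.L i.q.primeCompl
  Algebra.EssFiniteType.comp R i.S i.L

instance (i : Idx R K) : Algebra.FormallyEtale R i.L :=
  have : Algebra.FormallyEtale i.S i.L := Algebra.FormallyEtale.of_isLocalization i.q.primeCompl
  Algebra.FormallyEtale.comp R i.S i.L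

/-- The point of the local ring. -/
noncomputable def Idx.ε (i : Idx R K) : i.L →ₐ[R] K :=
  IsLocalization.liftAlgHom (M := i.q.primeCompl) (f := i.pt) fun s => isUnit_iff_ne_zero.2 s.2

theorem Idx.ε_algebraMap (i : Idx R K) (a : i.S) : i.ε (algebraMap i.S i.L a) = i.pt a :=
  IsLocalization.lift_eq _ _

theorem Idx.mem_maximalIdeal_iff (i : Idx R K) (x : i.L) :
    x ∈ maximalIdeal i.L ↔ i.ε x = 0 := by
  obtain ⟨⟨a, s⟩, h⟩ := IsLocalization.surj i.q.primeCompl x
  have h1 := congrArg i.ε h
  rw [map_mul, i.ε_algebraMap, i.ε_algebraMap] at h1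
  have hs : i.pt s ≠ 0 := s.2
  have hu : IsUnit (algebraMap i.S i.L s) := IsLocalization.map_units i.L s
  constructor
  · intro hx
    have h3 : algebraMap i.S i.L a ∈ maximalIdeal i.L := h ▸ Ideal.mul_mem_right _ _ hx
    have h4 : i.pt a = 0 := (IsLocalization.AtPrime.to_map_mem_maximal_iff i.L i.q a).1 h3
    rw [h4, mul_eq_zero] at h1
    exact h1.resolve_right hs
  · intro hx
    rw [hx, zero_mul] at h1
    have h3 := (IsLocalization.AtPrime.to_map_mem_maximal_iff i.L i.q a).2 h1.symm
    rw [← h] at h3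
    exact (Ideal.mul_unit_mem_iff_mem _ hu).1 h3

theorem Idx.isUnit_iff (i : Idx R K) (x : i.L) : IsUnit x ↔ i.ε x ≠ 0 := by
  rw [Ne, ← i.mem_maximalIdeal_iff, mem_maximalIdeal, mem_nonunits_iff, not_not]

theorem hom_ext_of_etale {S : Type u} [CommRing S] [Algebra R S] [Algebra.Etale R S] (j : Idx R K)
    {f g : S →ₐ[R] j.L} (h : j.ε.comp f = j.ε.comp g) : f = g :=
  Hensel.algHom_unique (A := j.L) (I := maximalIdeal j.L) (f := f) (g := g)
    (le_sInf fun M hM => (eq_maximalIdeal hM.2).ge) fun x => by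
      rw [j.mem_maximalIdeal_iff, map_sub]
      exact sub_eq_zero.2 (AlgHom.congr_fun h x)

theorem exists_idx (S : Type u) [CommRing S] [Algebra R S] [Algebra.Etale R S] (σ : S →ₐ[R] K) :
    ∃ (j : Idx R K) (e : S →ₐ[R] j.L), j.ε.comp e = σ := by
  classical
  obtain ⟨n, π, hπ, hker⟩ := (inferInstance : Algebra.FinitePresentation R S).out
  obtain ⟨s, hs⟩ := hker
  let rel : Fin s.card → MvPolynomial (Fin n) R := fun k => (s.equivFin.symm k : MvPolynomial (Fin n) R)
  have hrel : Ideal.span (Set.range rel) = RingHom.ker π := by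
    rw [show Set.range rel = (s : Set (MvPolynomial (Fin n) R)) from ?_]
    · exact hs
    ext x
    exact ⟨fun ⟨k, hk⟩ => hk ▸ (s.equivFin.symm k).2, fun hx => ⟨s.equivFin ⟨x, hx⟩, by simp [rel]⟩⟩
  let e₀ : (MvPolynomial (Fin n) R ⧸ Ideal.span (Set.range rel)) ≃ₐ[R] S :=
    (Ideal.quotientEquivAlgOfEq R hrel).trans (Ideal.quotientKerAlgEquivOfSurjective hπ)
  let j : Idx R K := ⟨n, s.card, rel, σ.comp e₀.toAlgHom, Algebra.Etale.of_equiv e₀.symm⟩
  refine ⟨j, (IsScalarTower.toAlgHom R j.S j.L).comp e₀.symm.toAlgHom, AlgHom.ext fun x => ?_⟩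
  show j.ε (algebraMap j.S j.L (e₀.symm x)) = σ x
  rw [j.ε_algebraMap]
  show σ (e₀ (e₀.symm x)) = σ x
  rw [e₀.apply_symm_apply]

instance : Preorder (Idx R K) where
  le i j := ∃ f : i.L →ₐ[R] j.L, j.ε.comp f = i.ε
  le_refl i := ⟨AlgHom.id R _, rfl⟩
  le_trans i j k := fun ⟨f, hf⟩ ⟨g, hg⟩ => ⟨g.comp f, by rw [← AlgHom.comp_assoc, hg, hf]⟩

theorem le_of_hom {i j : Idx R K} (f : i.S →ₐ[R] j.L) (hf : j.ε.comp f = i.pt) : i ≤ j := by
  refine ⟨IsLocalization.liftAlgHom (M := i.q.primeCompl) (f := f) fun s => ?_, ?_⟩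
  · rw [j.isUnit_iff]
    exact ((AlgHom.congr_fun hf s).trans_ne (show i.pt s ≠ 0 from s.2))
  · refine IsLocalization.algHom_ext i.q.primeCompl (AlgHom.ext fun x => ?_)
    show j.ε (IsLocalization.lift _ (algebraMap i.S i.L x)) = i.ε (algebraMap i.S i.L x)
    rw [IsLocalization.lift_eq, i.ε_algebraMap]
    exact AlgHom.congr_fun hf x

instance : Nonempty (Idx R K) := ⟨(exists_idx R (Algebra.ofId R K)).choose⟩

instance : IsDirectedOrder (Idx R K) := by
  refine ⟨fun i j => ?_⟩
  have : Algebra.Etale R (TensorProduct R i.S j.S) := Algebra.Etale.comp R i.S _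
  obtain ⟨k, e, he⟩ := exists_idx (TensorProduct R i.S j.S)
    (Algebra.TensorProduct.lift i.pt j.pt fun _ _ => Commute.all _ _)
  refine ⟨k, le_of_hom (e.comp Algebra.TensorProduct.includeLeft) ?_,
    le_of_hom (e.comp Algebra.TensorProduct.includeRight) ?_⟩
  all_goals rw [← AlgHom.comp_assoc, he]; ext x; simp

noncomputable def tr (i j : Idx R K) (h : i ≤ j) : i.L →ₐ[R] j.L := h.choose

theorem ε_tr (i j : Idx R K) (h : i ≤ j) : j.ε.comp (tr i j h) = i.ε := h.choose_spec

theorem tr_eq {i j : Idx R K} (h : i ≤ j) (f : i.L →ₐ[R] j.L) (hf : j.ε.comp f = i.ε) :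
    f = tr i j h := by
  refine IsLocalization.algHom_ext i.q.primeCompl ?_
  refine hom_ext_of_etale j (AlgHom.ext fun x => ?_)
  exact (AlgHom.congr_fun hf (algebraMap i.S i.L x)).trans
    (AlgHom.congr_fun (ε_tr i j h) (algebraMap i.S i.L x)).symm

instance : DirectedSystem (fun i : Idx R K => i.L) (fun i j h => ⇑(tr i j h)) where
  map_self i x := by rw [← tr_eq le_rfl (AlgHom.id R _) rfl]; rfl
  map_map k j i hij hjk x := by
    rw [← tr_eq (hij.trans hjk) ((tr j k hjk).comp (tr i j hij))
      (by rw [← AlgHom.comp_assoc, ε_tr, ε_tr])]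
    rfl

variable (R K)

/-- The colimit. -/
def Hz : Type u := DirectLimit (fun i : Idx R K => i.L) tr

instance : CommRing (Hz R K) :=
  inferInstanceAs (CommRing (DirectLimit (fun i : Idx R K => i.L) tr))

instance : Algebra R (Hz R K) :=
  inferInstanceAs (Algebra R (DirectLimit (fun i : Idx R K => i.L) tr))

variable {R K}

noncomputable def ι (i : Idx R K) : i.L →ₐ[R] Hz R K := DirectLimit.Algebra.of _ _ i

theorem ι_tr (i j : Idx R K) (h : i ≤ j) (x : i.L) : ι j (tr i j h x) = ι i x :=
  Quotient.sound ⟨j, le_rfl, h, DirectedSystem.map_self' _ _⟩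

variable (R K) in
/-- The point of the colimit. -/
noncomputable def εH : Hz R K →ₐ[R] K :=
  DirectLimit.Algebra.lift _ _ K (fun i : Idx R K => i.ε) fun i j h x =>
    AlgHom.congr_fun (ε_tr i j h) x

theorem εH_ι (i : Idx R K) (x : i.L) : εH R K (ι i x) = i.ε x := rfl

theorem exists_ι (z : Hz R K) : ∃ i x, ι i x = z := by
  obtain ⟨i, x, rfl⟩ := DirectLimit.exists_eq_mk _ z
  exact ⟨i, x, rfl⟩

theorem isUnit_iff (z : Hz R K) : IsUnit z ↔ εH R K z ≠ 0 := by
  refine ⟨fun h => (h.map (εH R K)).ne_zero, fun h => ?_⟩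
  obtain ⟨i, x, rfl⟩ := exists_ι z
  exact ((i.isUnit_iff x).2 h).map (ι i)

instance : Nontrivial (Hz R K) := (εH R K).toRingHom.domain_nontrivial

instance : IsLocalRing (Hz R K) := by
  refine .of_nonunits_add fun a b ha hb => ?_
  simp only [mem_nonunits_iff, isUnit_iff, not_not] at ha hb ⊢
  rw [map_add, ha, hb, add_zero]

theorem mem_maximalIdeal_iff (z : Hz R K) : z ∈ maximalIdeal (Hz R K) ↔ εH R K z = 0 := by
  rw [mem_maximalIdeal, mem_nonunits_iff, isUnit_iff, not_not]

theorem exists_lift_poly (f : (Hz R K)[X]) (hf : f.Monic) :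
    ∃ (i : Idx R K) (g : i.L[X]), g.Monic ∧ g.map (ι i).toRingHom = f := by
  classical
  choose idx x hx using fun k => exists_ι (f.coeff k)
  obtain ⟨i, hi⟩ := Finset.exists_le (f.support.image idx)
  have hl : f ∈ lifts (ι i).toRingHom := by
    rw [lifts_iff_coeff_lifts]
    intro k
    by_cases hk : k ∈ f.support
    · exact ⟨tr _ _ (hi _ (Finset.mem_image_of_mem _ hk)) (x k), (ι_tr _ _ _ _).trans (hx k)⟩
    · exact ⟨0, by rw [notMem_support_iff.1 hk]; exact map_zero _⟩
  obtain ⟨g, hg, -, hgm⟩ := lifts_and_natDegree_eq_and_monic hl hf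
  exact ⟨i, g, hgm, hg⟩

instance : HenselianLocalRing (Hz R K) where
  is_henselian := by
    intro f hf a₀ h₁ h₂
    classical
    obtain ⟨i, fL, hfL, hmapL⟩ := exists_lift_poly f hf
    obtain ⟨s, hs⟩ := IsLocalization.exist_integer_multiples_of_finset i.q.primeCompl fL.coeffs
    let A₁ := Localization.Away (s : i.S)
    have hsu : IsUnit (algebraMap i.S i.L s) := IsLocalization.map_units i.L s
    let φ : A₁ →ₐ[R] i.L := IsLocalization.liftAlgHom (M := Submonoid.powers (s : i.S))
      (f := IsScalarTower.toAlgHom R i.S i.L) (fun ⟨_, k, hk⟩ => by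
        subst hk
        simpa using hsu.pow k)
    have hφ : ∀ b, φ (algebraMap i.S A₁ b) = algebraMap i.S i.L b := fun b =>
      IsLocalization.lift_eq _ _
    have hlift : fL ∈ lifts φ.toRingHom := by
      rw [lifts_iff_coeff_lifts]
      intro k
      by_cases hk : fL.coeff k = 0
      · exact ⟨0, by rw [hk]; exact map_zero _⟩
      obtain ⟨b, hb⟩ := hs _ (coeff_mem_coeffs hk)
      refine ⟨algebraMap i.S A₁ b * IsLocalization.Away.invSelf (s : i.S), hsu.mul_left_cancel ?_⟩
      show algebraMap i.S i.L s * φ _ = _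
      rw [← hφ s, ← map_mul, mul_left_comm, IsLocalization.Away.mul_invSelf, mul_one, hφ, hb,
        Algebra.smul_def, hφ]
    obtain ⟨fA, hfA, -, hfAm⟩ := lifts_and_natDegree_eq_and_monic hlift hfL
    let σ₁ : A₁ →ₐ[R] K := i.ε.comp φ
    have hfK : f.map (εH R K).toRingHom = fA.map σ₁.toRingHom := by
      rw [← hmapL, ← hfA, Polynomial.map_map, Polynomial.map_map]
      rfl
    let P : StandardEtalePair A₁ := ⟨fA, hfAm, derivative fA, ⟨1, 0, 1, by simp⟩⟩
    have : Algebra.Etale R A₁ := inferInstance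
    let _ : Algebra R P.Ring := ((algebraMap A₁ P.Ring).comp (algebraMap R A₁)).toAlgebra
    have : IsScalarTower R A₁ P.Ring := .of_algebraMap_eq fun _ => rfl
    have : Algebra.Etale R P.Ring := Algebra.Etale.comp R A₁ _
    let _ : Algebra A₁ K := σ₁.toRingHom.toAlgebra
    have : IsScalarTower R A₁ K := .of_algebraMap_eq fun r => (σ₁.commutes r).symm
    have haev : ∀ p : A₁[X], aeval (εH R K a₀) p = (p.map σ₁.toRingHom).eval (εH R K a₀) :=
      fun p => (eval_map _ _).symm
    have hmap : P.HasMap (εH R K a₀) := by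
      refine ⟨?_, ?_⟩
      · show aeval _ fA = 0
        rw [haev, ← hfK, eval_map]
        exact (eval₂_at_apply _ _).trans ((mem_maximalIdeal_iff _).1 h₁)
      · show IsUnit (aeval _ (derivative fA))
        rw [haev, ← derivative_map, ← hfK, derivative_map, eval_map]
        rw [show eval₂ (εH R K).toRingHom (εH R K a₀) (derivative f) =
          εH R K ((derivative f).eval a₀) from eval₂_at_apply _ _]
        exact h₂.map _
    obtain ⟨j, e, he⟩ := exists_idx P.Ring ((P.lift _ hmap).restrictScalars R)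
    let ψ : A₁ →ₐ[R] j.L := e.comp (IsScalarTower.toAlgHom R A₁ P.Ring)
    have hψ : j.ε.comp ψ = σ₁ := AlgHom.ext fun a => by
      show j.ε (e (algebraMap A₁ P.Ring a)) = _
      rw [← AlgHom.comp_apply, he]
      exact (P.lift _ hmap).commutes a
    have hij : i ≤ j := le_of_hom (ψ.comp (IsScalarTower.toAlgHom R i.S A₁)) (AlgHom.ext fun x => by
      rw [← AlgHom.comp_assoc, hψ]
      show i.ε (φ (algebraMap i.S A₁ x)) = i.pt x
      rw [hφ, i.ε_algebraMap])
    have hcomp : (tr i j hij).comp φ = ψ := hom_ext_of_etale j (by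
      rw [← AlgHom.comp_assoc, ε_tr, hψ])
    have hf' : f = fA.map ((ι j).comp ψ).toRingHom := by
      rw [← hmapL, ← hfA, Polynomial.map_map, ← hcomp]
      congr 1
      exact RingHom.ext fun a => (ι_tr i j hij _).symm
    let _ : Algebra A₁ (Hz R K) := ((ι j).comp ψ).toRingHom.toAlgebra
    let τ : P.Ring →ₐ[A₁] Hz R K :=
      { toRingHom := ((ι j).comp e).toRingHom, commutes' := fun a => rfl }
    refine ⟨τ P.X, ?_, ?_⟩
    · have h3 : aeval (τ P.X) fA = 0 := by
        rw [aeval_algHom_apply, show aeval P.X fA = 0 from P.hasMap_X.1, map_zero]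
      rw [IsRoot, hf', eval_map]
      exact h3
    · rw [mem_maximalIdeal_iff, map_sub, sub_eq_zero]
      show εH R K (ι j (e P.X)) = _
      rw [εH_ι, ← AlgHom.comp_apply, he]
      exact P.lift_X _ hmap

section Universal

variable {T : Type u} [CommRing T] [HenselianLocalRing T]

theorem existsUnique_hom (f : R →+* T) (τ : K →+* ResidueField T)
    (hτ : τ.comp (algebraMap R K) = (residue T).comp f) :
    ∃! g : Hz R K →+* T, g.comp (algebraMap R (Hz R K)) = f ∧
      ∀ x, residue T (g x) = τ (εH R K x) := by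
  let _ : Algebra R T := f.toAlgebra
  have hc : ∀ (S : Type u) [CommRing S] [Algebra R S] (σ : S →ₐ[R] K),
      ∃ σ' : S →ₐ[R] T ⧸ maximalIdeal T, ∀ x, σ' x = τ (σ x) := fun S _ _ σ =>
    ⟨{ toRingHom := τ.comp σ.toRingHom
       commutes' := fun r => by
        show τ (σ (algebraMap R S r)) = _
        rw [σ.commutes]
        exact RingHom.congr_fun hτ r }, fun x => rfl⟩
  choose c hc using hc
  choose t ht using fun i : Idx R K => (Hensel.bijective_comp_mk (E := i.S) (A := T)).2 (c i.S i.pt)
  have htres : ∀ (i : Idx R K) (x : i.S), residue T (t i x) = τ (i.pt x) := fun i x =>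
    (AlgHom.congr_fun (ht i) x).trans (hc _ _ x)
  have htu : ∀ (i : Idx R K) (s : i.q.primeCompl), IsUnit (t i s) := fun i s => by
    rw [← residue_ne_zero_iff_isUnit, htres]
    exact (map_ne_zero τ).2 s.2
  let tL : ∀ i : Idx R K, i.L →ₐ[R] T := fun i =>
    IsLocalization.liftAlgHom (M := i.q.primeCompl) (f := t i) (htu i)
  have htL : ∀ (i : Idx R K) (x : i.L), residue T (tL i x) = τ (i.ε x) := by
    intro i x
    obtain ⟨⟨a, s⟩, h⟩ := IsLocalization.surj i.q.primeCompl x
    have h1 : tL i x * t i s = t i a := by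
      have h0 : ∀ b : i.S, t i b = tL i (algebraMap i.S i.L b) :=
        fun b => (IsLocalization.lift_eq _ b).symm
      rw [h0 s, h0 a, ← map_mul, h]
    have h2 : i.ε x * i.pt s = i.pt a := by
      rw [← i.ε_algebraMap, ← i.ε_algebraMap, ← map_mul, h]
    have h3 := congrArg (residue T) h1
    rw [map_mul, htres, htres, ← h2, map_mul] at h3
    exact mul_right_cancel₀ ((map_ne_zero τ).2 s.2) h3
  have huniq : ∀ (i : Idx R K) (g₁ g₂ : i.L →ₐ[R] T),
      (∀ x, residue T (g₁ x) = residue T (g₂ x)) → g₁ = g₂ := fun i g₁ g₂ h =>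
    IsLocalization.algHom_ext i.q.primeCompl
      (Hensel.algHom_unique (A := T) (I := maximalIdeal T) (jacobson_eq_maximalIdeal (⊥ : Ideal T) bot_ne_top).ge
        fun x => Ideal.Quotient.eq.1 (h _))
  have hcompat : ∀ i j h, ∀ x, tL j (tr i j h x) = tL i x := fun i j h x =>
    AlgHom.congr_fun (huniq i ((tL j).comp (tr i j h)) (tL i) fun y => by
      rw [AlgHom.comp_apply, htL, htL, ← AlgHom.comp_apply, ε_tr]) x
  let g : Hz R K →ₐ[R] T := DirectLimit.Algebra.lift _ _ T tL hcompat
  have hg : ∀ x, residue T (g x) = τ (εH R K x) := fun x => by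
    obtain ⟨i, y, rfl⟩ := exists_ι x
    exact htL i y
  refine ⟨g.toRingHom, ⟨RingHom.ext g.commutes, hg⟩, fun g' ⟨h1, h2⟩ => RingHom.ext fun x => ?_⟩
  let g'' : Hz R K →ₐ[R] T := { toRingHom := g', commutes' := RingHom.congr_fun h1 }
  obtain ⟨i, y, rfl⟩ := exists_ι x
  exact AlgHom.congr_fun (huniq i (g''.comp (ι i)) (g.comp (ι i)) fun z =>
    (h2 _).trans (hg _).symm) y

end Universal

section Local

variable [IsLocalRing R] [Algebra (ResidueField R) K] [IsScalarTower R (ResidueField R) K]

theorem algebraMap_eq_zero_iff (r : R) : algebraMap R K r = 0 ↔ r ∈ maximalIdeal R := by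
  rw [IsScalarTower.algebraMap_apply R (ResidueField R) K, map_eq_zero,
    ResidueField.algebraMap_eq, residue_eq_zero_iff]

instance (i : Idx R K) : IsLocalHom (algebraMap R i.L) := ⟨fun r hr => by
  rw [i.isUnit_iff, i.ε.commutes, Ne, algebraMap_eq_zero_iff] at hr
  exact notMem_maximalIdeal.1 hr⟩

instance : IsLocalHom (algebraMap R (Hz R K)) := ⟨fun r hr => by
  rw [isUnit_iff, (εH R K).commutes, Ne, algebraMap_eq_zero_iff] at hr
  exact notMem_maximalIdeal.1 hr⟩

theorem Idx.map_maximalIdeal (i : Idx R K) :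
    (maximalIdeal R).map (algebraMap R i.L) = maximalIdeal i.L := by
  exact Algebra.FormallyUnramified.map_maximalIdeal (R := R) (S := i.L)

theorem map_maximalIdeal : (maximalIdeal R).map (algebraMap R (Hz R K)) = maximalIdeal (Hz R K) := by
  refine le_antisymm (((local_hom_TFAE (algebraMap R (Hz R K))).out 0 2 rfl rfl).mp inferInstance) fun z hz => ?_
  obtain ⟨i, x, rfl⟩ := exists_ι z
  rw [mem_maximalIdeal_iff, εH_ι, ← i.mem_maximalIdeal_iff, ← i.map_maximalIdeal] at hz
  have := Ideal.mem_map_of_mem (ι i).toRingHom hz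
  rwa [Ideal.map_map, show (ι i).toRingHom.comp (algebraMap R i.L) = algebraMap R (Hz R K) from
    RingHom.ext (ι i).commutes] at this

theorem εH_surjective [Algebra.IsSeparable (ResidueField R) K] :
    Function.Surjective (εH R K) := by
  intro x
  set F := minpoly (ResidueField R) x
  obtain ⟨G, hG, -, hGm⟩ := lifts_and_natDegree_eq_and_monic
    ((mem_lifts F).2 (Polynomial.map_surjective _ residue_surjective F))
    (minpoly.monic (Algebra.IsSeparable.isIntegral (ResidueField R) x))
  let P : StandardEtalePair R := ⟨G, hGm, derivative G, ⟨1, 0, 1, by simp⟩⟩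
  have haev : ∀ p : R[X], aeval x p = aeval x (p.map (residue R)) := fun p =>
    (aeval_map_algebraMap (ResidueField R) x p).symm
  have hmap : P.HasMap x := by
    refine ⟨?_, ?_⟩
    · show aeval x G = 0
      rw [haev, hG, minpoly.aeval]
    · show IsUnit (aeval x (derivative G))
      rw [haev, ← derivative_map, hG]
      exact isUnit_iff_ne_zero.2
        ((Algebra.IsSeparable.isSeparable (ResidueField R) x).aeval_derivative_ne_zero
          (minpoly.aeval _ _))
  obtain ⟨j, e, he⟩ := exists_idx P.Ring (P.lift x hmap)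
  refine ⟨ι j (e P.X), ?_⟩
  rw [εH_ι, ← AlgHom.comp_apply, he, P.lift_X]

end Local

end

end Groth.Agent.Henselization
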